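import Cfsg.Agent.Lib.ClassK.M12Nse.Iface
import Cfsg.Agent.Lib.ClassK.SmallOrders
import Cfsg.Agent.Lib.ClassK.Order720
import Cfsg.Agent.Lib.ClassK.SmallSimple
import Cfsg.Agent.Lib.ClassK.Simple360

/-!
The centraliser of the involution commuting with an element of order five: it contains a copy of
`A5` or `A6` invariant in it, with index four.
-/

set_option autoImplicit false
set_option linter.unusedSectionVars false

namespace CfsgLib.ClassK.M12Nse

open Subgroup

universe u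

variable {G : Type u} [Group G] [Finite G]

/-- An element of order five and the involution commuting with it. -/
structure Ctx (G : Type u) [Group G] : Type u where
  h : Hyp G
  x : G
  s : G
  hx : orderOf x = 5
  hs : orderOf s = 2
  hsx : s * x = x * s

namespace Ctx

variable (c : Ctx G)

/-- The centraliser of the involution. -/
def C : Subgroup G := centralizer ({c.s} : Set G)

/-- The normaliser of the subgroup of order five. -/
def N : Subgroup G := normalizer (zpowers c.x : Set G)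

theorem mem_C {g : G} : g ∈ c.C ↔ g * c.s = c.s * g := mem_centralizer_singleton_iff

theorem s_mem : c.s ∈ c.C := c.mem_C.2 rfl

theorem x_mem : c.x ∈ c.C := c.mem_C.2 c.hsx.symm

theorem card_N : Nat.card c.N = 40 := by
  have : Fact (Nat.Prime 5) := ⟨by norm_num⟩
  have := card_normalizer_zpowers c.h (by norm_num) (by norm_num) c.h.n5 c.hx
  show Nat.card (normalizer (zpowers c.x : Set G)) = 40
  omega

theorem N_le : c.N ≤ c.C := normalizer_five_le c.h c.hx c.hs c.hsx

theorem x_memN : c.x ∈ c.N := le_normalizer (mem_zpowers _)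

theorem s_memN : c.s ∈ c.N :=
  centralizer_le_normalizer_zpowers c.x (mem_centralizer_singleton_iff.2 c.hsx)

theorem fix_x {y : G} (hy : y * c.x = c.x * y) : ∃ i j : ℕ, y = c.x ^ i * c.s ^ j := by
  obtain ⟨s', hs', hs'x, hall⟩ := exists_invol_five c.h c.hx
  obtain rfl := invol_five_unique c.h c.hx hs' hs'x c.hs c.hsx
  exact hall y hy

/-- The class of `s` has one fixed point under `x`. -/
theorem ncard_cl_mod : (cl c.s).ncard ≡ 1 [MOD 5] := by
  have : Fact (Nat.Prime 5) := ⟨by norm_num⟩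
  have h := ncard_modEq_fixed (p := 5)
    (IsPGroup.of_card (G := zpowers c.x) (p := 5) (n := 1)
      (by rw [Nat.card_zpowers, c.hx, pow_one]))
    (cl c.s) (fun k _ t ht => conj_mem_cl k ht)
  have e : {t | t ∈ cl c.s ∧ ∀ k ∈ zpowers c.x, k * t = t * k} = {c.s} := by
    ext t
    simp only [Set.mem_singleton_iff]
    constructor
    · rintro ⟨h1, h2⟩
      exact invol_five_unique c.h c.hx (by rw [orderOf_mem_cl h1, c.hs])
        (h2 c.x (mem_zpowers _)).symm c.hs c.hsx
    · rintro rfl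
      refine ⟨mem_cl_self _, fun k hk => ?_⟩
      obtain ⟨i, rfl⟩ := mem_zpowers_iff.1 hk
      exact ((show Commute c.s c.x from c.hsx).zpow_right i).eq.symm
  rwa [e, Set.ncard_singleton] at h

theorem ncard_cl_le : (cl c.s).ncard ≤ 891 := by
  rw [← M12Nse.cnt_two c.h, ← Nat.card_coe_set_eq]
  exact Nat.card_le_card_of_injective (fun t => ⟨t.1, by rw [orderOf_mem_cl t.2, c.hs]⟩)
    fun a b e => Subtype.ext (congrArg (fun w : {g : G // orderOf g = 2} => (w : G)) e)

theorem card_C_eq : ∃ m : ℕ, Nat.card c.C = 40 * m ∧ (m = 6 ∨ m = 36) := by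
  have hd : Nat.card c.C ∣ 95040 := c.h.card ▸ card_subgroup_dvd_card _
  have h40 : 40 ∣ Nat.card c.C := c.card_N ▸ card_dvd_of_le c.N_le
  have h11 : ¬ 11 ∣ Nat.card c.C :=
    eleven_not_dvd c.h (by rw [c.hs]; norm_num) (CfsgLib.Invol.invol_ne_one c.hs)
  obtain ⟨m, hm⟩ := h40
  have hd' : Nat.card c.C ∣ 8640 := (Nat.Coprime.dvd_of_dvd_mul_right
    ((Nat.Prime.coprime_iff_not_dvd (by norm_num)).2 h11).symm
    (show Nat.card c.C ∣ 8640 * 11 from hd))
  rw [hm] at hd'
  have hm216 : m ∣ 216 := Nat.dvd_of_mul_dvd_mul_left (by norm_num : 0 < 40)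
    (hd' : 40 * m ∣ 40 * 216)
  have hS := ncard_cl_mul c.s
  rw [c.h.card, show Nat.card (centralizer ({c.s} : Set G)) = 40 * m from hm] at hS
  have hS' : (cl c.s).ncard * m = 2376 := by
    have : (cl c.s).ncard * m * 40 = 2376 * 40 := by
      rw [show (cl c.s).ncard * m * 40 = (cl c.s).ncard * (40 * m) by ring, hS]
    omega
  have hm5 : m % 5 = 1 := by
    have h1 := (c.ncard_cl_mod.mul_right m)
    rw [hS', one_mul] at h1
    have : 2376 % 5 = m % 5 := h1
    omega
  have hle := c.ncard_cl_le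
  have hall : ∀ k ∈ Nat.divisors 216, k % 5 = 1 → k = 1 ∨ k = 6 ∨ k = 36 ∨ k = 216 := by
    decide +kernel
  rcases hall m (Nat.mem_divisors.2 ⟨hm216, by norm_num⟩) hm5 with e | e | e | e
  · subst e; omega
  · exact ⟨m, hm, Or.inl e⟩
  · exact ⟨m, hm, Or.inr e⟩
  exfalso
  subst e
  have hS11 : (cl c.s).ncard = 11 := by omega
  have : Fact (Nat.Prime 5) := ⟨by norm_num⟩
  have := M12Nse.simple c.h
  have h4 := four_dvd_moved (nonabelian c.h) c.s (CfsgLib.Invol.invol_mul_self c.hs)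
  have hF := ncard_modEq_fixed (p := 5)
    (IsPGroup.of_card (G := zpowers c.x) (p := 5) (n := 1)
      (by rw [Nat.card_zpowers, c.hx, pow_one]))
    (fixIn (cl c.s) c.s) (fun k hk t ht => by
      refine ⟨conj_mem_cl k ht.1, ?_⟩
      obtain ⟨i, rfl⟩ := mem_zpowers_iff.1 hk
      have h1 : Commute c.s (c.x ^ i) := (show Commute c.s c.x from c.hsx).zpow_right i
      exact ((h1.mul_right ht.2).mul_right h1.inv_right).eq)
  have e : {t | t ∈ fixIn (cl c.s) c.s ∧ ∀ k ∈ zpowers c.x, k * t = t * k} = {c.s} := by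
    ext t
    simp only [Set.mem_singleton_iff]
    constructor
    · rintro ⟨h1, h2⟩
      exact invol_five_unique c.h c.hx (by rw [orderOf_mem_cl h1.1, c.hs])
        (h2 c.x (mem_zpowers _)).symm c.hs c.hsx
    · rintro rfl
      refine ⟨⟨mem_cl_self _, rfl⟩, fun k hk => ?_⟩
      obtain ⟨i, rfl⟩ := mem_zpowers_iff.1 hk
      exact ((show Commute c.s c.x from c.hsx).zpow_right i).eq.symm
  rw [e, Set.ncard_singleton] at hF
  have hF' : (fixIn (cl c.s) c.s).ncard % 5 = 1 := hF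
  have hsub : fixIn (cl c.s) c.s ⊆ cl c.s := fun t ht => ht.1
  have hle11 : (fixIn (cl c.s) c.s).ncard ≤ 11 :=
    hS11 ▸ Set.ncard_le_ncard hsub (Set.toFinite _)
  rw [hS11] at h4
  obtain ⟨j, hj⟩ := h4
  have heq := Set.eq_of_subset_of_ncard_le hsub (by omega) (Set.toFinite _)
  -- the class generates a normal subgroup inside the centraliser
  have hclC : cl c.s ⊆ (c.C : Set G) := fun t ht => by
    rw [← heq] at ht
    exact c.mem_C.2 ht.2.symm
  have hn : (closure (cl c.s)).Normal := by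
    refine ⟨fun n hn g => ?_⟩
    induction hn using closure_induction with
    | mem z hz => exact subset_closure (conj_mem_cl g hz)
    | one => simp
    | mul a b _ _ ha hb =>
      rw [show g * (a * b) * g⁻¹ = g * a * g⁻¹ * (g * b * g⁻¹) by group]; exact mul_mem ha hb
    | inv a _ ha => rw [show g * a⁻¹ * g⁻¹ = (g * a * g⁻¹)⁻¹ by group]; exact inv_mem ha
  rcases hn.eq_bot_or_eq_top with e | e
  · have h1 : c.s ∈ closure (cl c.s) := subset_closure (mem_cl_self _)
    rw [e, mem_bot] at h1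
    exact CfsgLib.Invol.invol_ne_one c.hs h1
  · have h1 : (⊤ : Subgroup G) ≤ c.C := e ▸ (closure_le _).2 hclC
    have h2 := card_dvd_of_le h1
    rw [card_top, c.h.card, hm] at h2
    norm_num at h2

/-- A subgroup without elements of order five normalised by `B` is `<s>`. -/
theorem card_small {B K : Subgroup G} (hBC : B ≤ c.C) (hxB : c.x ∈ B) (hKB : K ≤ B)
    (hnorm : ∀ b ∈ B, ∀ k ∈ K, b * k * b⁻¹ ∈ K) (hsK : c.s ∈ K) (h5 : ¬ 5 ∣ Nat.card K)
    (hB : B = c.C ∨ ¬ 32 ∣ Nat.card B) : Nat.card K = 2 := by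
  classical
  have h5p : Fact (Nat.Prime 5) := ⟨by norm_num⟩
  have h2p : Fact (Nat.Prime 2) := ⟨Nat.prime_two⟩
  obtain ⟨m, hm, hm'⟩ := c.card_C_eq
  set A := zpowers c.x with hAdef
  have hAK : A ≤ normalizer (K : Set G) := by
    rw [hAdef, zpowers_le, mem_normalizer_iff]
    intro k
    refine ⟨fun hk => hnorm _ hxB k hk, fun hk => ?_⟩
    have := hnorm _ (B.inv_mem hxB) _ hk
    simpa [mul_assoc] using this
  have hA : IsPGroup 5 A :=
    IsPGroup.of_card (n := 1) (by rw [Nat.card_zpowers, c.hx, pow_one])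
  have hcop : (Nat.card A).Coprime (Nat.card K) := by
    rw [Nat.card_zpowers, c.hx]
    exact (Nat.Prime.coprime_iff_not_dvd (by norm_num)).2 h5
  have hfix : ∀ R : Subgroup G, R ≤ K → ∀ t ∈ R, (∀ k ∈ A, k * t = t * k) → t = 1 ∨ t = c.s := by
    intro R hR t ht hk
    obtain ⟨i, j, rfl⟩ := c.fix_x (hk c.x (mem_zpowers _)).symm
    have hi : c.x ^ i = 1 := by
      have h1 : c.x ^ i ∈ K := by
        have := K.mul_mem (hR ht) (K.inv_mem (K.pow_mem hsK j))
        simpa using this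
      by_contra hne
      refine h5 ?_
      have h2 := K.orderOf_dvd_natCard h1
      rwa [orderOf_eq_prime (hp := h5p) (by rw [← pow_mul, mul_comm, pow_mul, ← c.hx,
        pow_orderOf_eq_one, one_pow]) hne] at h2
    rw [hi, one_mul]
    have hs2 : c.s ^ 2 = 1 := by rw [pow_two, CfsgLib.Invol.invol_mul_self c.hs]
    rcases Nat.even_or_odd j with ⟨k, rfl⟩ | ⟨k, rfl⟩
    · left; rw [← two_mul, pow_mul, hs2, one_pow]
    · right; rw [pow_succ, pow_mul, hs2, one_pow, one_mul]
  have hpart : Nat.card K ∣ 2 ^ 5 := by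
    have hd : Nat.card K ∣ 40 * m := hm ▸ card_dvd_of_le (hKB.trans hBC)
    have h3 : ¬ 3 ∣ Nat.card K := by
      intro h3
      have : Fact (Nat.Prime 3) := ⟨Nat.prime_three⟩
      obtain ⟨P, hP⟩ := CfsgLib.Coprime.exists_invariant_sylow (A := A) (G := K) hAK hcop
        (Or.inl (inferInstance : Group.IsSolvable A)) 3
      set R := (P : Subgroup K).map K.subtype
      have hR : Nat.card R = Nat.card (P : Subgroup K) := card_map_of_injective K.subtype_injective
      have hmod := ncard_modEq_fixed (p := 5) hA (R : Set G)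
        (fun k hk t ht => (mem_normalizer_iff.1 (hP hk) t).1 ht)
      have h3R : 3 ∣ Nat.card R := hR ▸ P.dvd_card_of_dvd_card h3
      obtain ⟨e, he⟩ := IsPGroup.iff_card.1 P.2
      have hone : {t | t ∈ (R : Set G) ∧ ∀ k ∈ A, k * t = t * k} = {1} := by
        ext t
        refine ⟨fun ht => ?_, fun ht => by
          rw [Set.mem_singleton_iff.1 ht]; exact ⟨R.one_mem, by simp⟩⟩
        rcases hfix R (map_subtype_le _) t ht.1 ht.2 with e' | e'
        · exact e'
        · exfalso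
          have h1 := R.orderOf_dvd_natCard ht.1
          rw [e', c.hs, hR, he] at h1
          exact absurd (Nat.prime_two.dvd_of_dvd_pow h1) (by norm_num)
      rw [hone, Set.ncard_singleton, ← Nat.card_coe_set_eq] at hmod
      have hmod' : Nat.card R % 5 = 1 := hmod
      have hd9 : Nat.card R ∣ 9 := by
        have h1 : 3 ^ e ∣ 40 * m := by
          rw [← he]; exact (P : Subgroup K).card_subgroup_dvd_card.trans hd
        have h2 : (3 ^ e).Coprime 160 := by
          rw [show (160 : ℕ) = 2 ^ 5 * 5 by norm_num]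
          exact Nat.Coprime.mul_right (Nat.Coprime.pow _ _ (by norm_num))
            (Nat.Coprime.pow_left _ (by norm_num))
        rw [hR, he]
        refine h2.dvd_of_dvd_mul_left (h1.trans ?_)
        rcases hm' with rfl | rfl <;> norm_num
      have hle := Nat.le_of_dvd (by norm_num) hd9
      interval_cases (Nat.card R) <;> omega
    refine Nat.Coprime.dvd_of_dvd_mul_right (k := Nat.card K) (n := 45) ?_ (hd.trans ?_)
    · rw [show (45 : ℕ) = 3 ^ 2 * 5 by norm_num]
      exact Nat.Coprime.mul_right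
        (Nat.Coprime.pow_right _ ((Nat.Prime.coprime_iff_not_dvd Nat.prime_three).2 h3).symm)
        ((Nat.Prime.coprime_iff_not_dvd (by norm_num)).2 h5).symm
    · rcases hm' with rfl | rfl <;> norm_num
  have hmod := ncard_modEq_fixed (p := 5) hA (K : Set G)
    (fun k hk t ht => (mem_normalizer_iff.1 (hAK hk) t).1 ht)
  have htwo : {t | t ∈ (K : Set G) ∧ ∀ k ∈ A, k * t = t * k} = {1, c.s} := by
    ext t
    refine ⟨fun ht => hfix K le_rfl t ht.1 ht.2, fun ht => ?_⟩
    rcases ht with rfl | rfl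
    · exact ⟨K.one_mem, by simp⟩
    · refine ⟨hsK, fun k hk => ?_⟩
      obtain ⟨i, rfl⟩ := mem_zpowers_iff.1 hk
      exact ((show Commute c.s c.x from c.hsx).zpow_right i).eq.symm
  rw [htwo, Set.ncard_pair (CfsgLib.Invol.invol_ne_one c.hs).symm, ← Nat.card_coe_set_eq] at hmod
  have hmod' : Nat.card K % 5 = 2 := hmod
  obtain ⟨k, hk, hKk⟩ := (Nat.dvd_prime_pow Nat.prime_two).1 hpart
  have h25 : Nat.card K = 2 ∨ Nat.card K = 32 := by
    interval_cases k <;> simp_all
  refine h25.resolve_right fun h32 => ?_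
  have hKB' : Nat.card K ∣ Nat.card B := card_dvd_of_le hKB
  rcases hB with hB | hB
  swap
  · exact hB (h32 ▸ hKB')
  subst hB
  -- a normal Sylow 2-subgroup of the centraliser meets the normaliser in at most two elements
  let KC : Subgroup c.C := K.subgroupOf c.C
  have hKn : KC.Normal := ⟨fun n hn y => hnorm _ y.2 _ hn⟩
  have hKp : IsPGroup 2 KC := IsPGroup.of_card (n := 5)
    (by rw [Nat.card_congr (subgroupOfEquivOfLe hKB).toEquiv, h32]; norm_num)
  obtain ⟨P⟩ : Nonempty (Sylow 2 c.N) := inferInstance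
  have hPc : Nat.card (P : Subgroup c.N) = 8 := by
    rw [P.card_eq_multiplicity, c.card_N, show (40 : ℕ) = 2 ^ 3 * 5 by norm_num,
      Nat.factorization_mul (by norm_num) (by norm_num), Finsupp.add_apply,
      Nat.Prime.factorization_pow Nat.prime_two, Finsupp.single_eq_same,
      Nat.factorization_eq_zero_of_not_dvd (show ¬ 2 ∣ 5 by norm_num), add_zero]
    norm_num
  have hsub : ∀ n : (P : Subgroup c.N), ((n : c.N) : G) = 1 ∨ ((n : c.N) : G) = c.s := by
    intro n
    have hnC : ((n : c.N) : G) ∈ c.C := c.N_le (n : c.N).2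
    obtain ⟨e, he⟩ := P.2 n
    have hnK : ((n : c.N) : G) ∈ K := by
      have hsup := (IsPGroup.of_card (G := zpowers (⟨_, hnC⟩ : c.C)) (p := 2)
        (n := (Nat.dvd_prime_pow Nat.prime_two).1 (orderOf_dvd_of_pow_eq_one
          (show (⟨_, hnC⟩ : c.C) ^ (2 ^ e) = 1 from Subtype.ext
            (congrArg (fun w : (P : Subgroup c.N) => ((w : c.N) : G)) he :))) |>.choose)
        (by
          rw [Nat.card_zpowers]
          exact ((Nat.dvd_prime_pow Nat.prime_two).1 (orderOf_dvd_of_pow_eq_one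
          (show (⟨_, hnC⟩ : c.C) ^ (2 ^ e) = 1 from Subtype.ext
            (congrArg (fun w : (P : Subgroup c.N) => ((w : c.N) : G)) he :)))).choose_spec.2)
        ).to_sup_of_normal_right hKp
      obtain ⟨f, hf⟩ := IsPGroup.iff_card.1 hsup
      have hd : Nat.card (zpowers (⟨_, hnC⟩ : c.C) ⊔ KC : Subgroup c.C) ∣ 40 * m :=
        hm ▸ card_subgroup_dvd_card _
      rw [hf] at hd
      have h5' : (2 ^ f).Coprime 45 := Nat.Coprime.pow_left _ (by norm_num)
      have hd' : 2 ^ f ∣ 32 := h5'.dvd_of_dvd_mul_right (hd.trans (by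
        rcases hm' with rfl | rfl <;> norm_num))
      have heq : KC = zpowers (⟨_, hnC⟩ : c.C) ⊔ KC :=
        eq_of_le_of_card_ge le_sup_right (by
          rw [hf, Nat.card_congr (subgroupOfEquivOfLe hKB).toEquiv, h32]
          exact Nat.le_of_dvd (by norm_num) hd')
      have hmem : (⟨_, hnC⟩ : c.C) ∈ KC := by
        rw [heq]; exact mem_sup_left (mem_zpowers _)
      exact hmem
    have hcomm : ∀ k ∈ A, k * ((n : c.N) : G) = ((n : c.N) : G) * k := by
      intro k hk
      have h1 : ((n : c.N) : G) * k * ((n : c.N) : G)⁻¹ * k⁻¹ ∈ K := by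
        rw [show ((n : c.N) : G) * k * ((n : c.N) : G)⁻¹ * k⁻¹ =
          ((n : c.N) : G) * (k * ((n : c.N) : G)⁻¹ * k⁻¹) by group]
        exact K.mul_mem hnK ((mem_normalizer_iff.1 (hAK hk) _).1 (K.inv_mem hnK))
      have h2 : ((n : c.N) : G) * k * ((n : c.N) : G)⁻¹ * k⁻¹ ∈ A :=
        A.mul_mem ((mem_normalizer_iff.1 (n : c.N).2 k).1 hk) (A.inv_mem hk)
      have h3 : A ⊓ K = ⊥ := inf_eq_bot_of_coprime hcop
      have h4 : ((n : c.N) : G) * k * ((n : c.N) : G)⁻¹ * k⁻¹ = 1 := by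
        rw [← mem_bot, ← h3]; exact ⟨h2, h1⟩
      have h5'' : ((n : c.N) : G) * k * ((n : c.N) : G)⁻¹ = k := mul_inv_eq_one.1 h4
      exact (mul_inv_eq_iff_eq_mul.1 h5'').symm
    exact hfix K le_rfl _ hnK hcomm
  have hle2 : Nat.card (P : Subgroup c.N) ≤ 2 := by
    have hinj : Function.Injective fun n : (P : Subgroup c.N) =>
        decide (((n : c.N) : G) = 1) := by
      intro a b hab
      simp only [decide_eq_decide] at hab
      apply Subtype.ext; apply Subtype.ext
      rcases hsub a with ea | ea <;> rcases hsub b with eb | eb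
      · rw [ea, eb]
      · rw [ea, hab.1 ea]
      · rw [eb, hab.2 eb]
      · rw [ea, eb]
    simpa using Nat.card_le_card_of_injective _ hinj
  omega

theorem exists_conj_mem {B : Subgroup G} (hBC : B ≤ c.C) (hxB : c.x ∈ B) {y : G}
    (hy : orderOf y = 5) (hyB : y ∈ B) : ∃ b ∈ B, y ∈ zpowers (b * c.x * b⁻¹) := by
  have h5p : Fact (Nat.Prime 5) := ⟨by norm_num⟩
  have h25 : ¬ 5 ^ 2 ∣ Nat.card B := fun h => by
    have := (h.trans (card_dvd_of_le hBC)).trans (c.h.card ▸ card_subgroup_dvd_card c.C)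
    norm_num at this
  have hsyl : ∀ z : B, orderOf (z : G) = 5 → ∃ P : Sylow 5 B, (P : Subgroup B) = zpowers z := by
    intro z hz
    obtain ⟨P, hP⟩ := (IsPGroup.of_card (G := zpowers z) (p := 5) (n := 1)
      (by rw [Nat.card_zpowers, ← Subgroup.orderOf_coe, hz, pow_one])).exists_le_sylow
    refine ⟨P, (eq_of_le_of_card_ge hP ?_).symm⟩
    rw [CfsgLib.Transfer.card_sylow_eq_prime P (show 5 ∣ Nat.card B by rw [← hz]; exact B.orderOf_dvd_natCard z.2) h25, Nat.card_zpowers, ← Subgroup.orderOf_coe, hz]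
  obtain ⟨P, hP⟩ := hsyl ⟨c.x, hxB⟩ c.hx
  obtain ⟨Q, hQ⟩ := hsyl ⟨y, hyB⟩ hy
  obtain ⟨b, rfl⟩ := MulAction.exists_smul_eq B P Q
  have hmem : (⟨y, hyB⟩ : B) ∈ ((b • P : Sylow 5 B) : Subgroup B) := by
    rw [hQ]; exact mem_zpowers _
  obtain ⟨q, hq, e⟩ := hmem
  rw [hP] at hq
  obtain ⟨i, rfl⟩ := mem_zpowers_iff.1 hq
  refine ⟨b, b.2, mem_zpowers_iff.2 ⟨i, ?_⟩⟩
  rw [conj_zpow]
  simpa using congrArg Subtype.val e

/-- A subgroup containing `x` and `s`, normalised by `B`, meets the normaliser in more than ten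
elements. -/
theorem card_inter_ne_ten {B A : Subgroup G} (hBC : B ≤ c.C) (hxB : c.x ∈ B) (hAB : A ≤ B)
    (hnorm : ∀ b ∈ B, ∀ a ∈ A, b * a * b⁻¹ ∈ A) (hxA : c.x ∈ A) (hsA : c.s ∈ A)
    (hB : B = c.C ∨ ¬ 32 ∣ Nat.card B) (hA : Nat.card A ≠ 10) :
    Nat.card (c.N.subgroupOf A) ≠ 10 := by
  intro h10
  have h5p : Fact (Nat.Prime 5) := ⟨by norm_num⟩
  have h25 : ¬ 5 ^ 2 ∣ Nat.card A := fun h => by
    have := (h.trans (card_dvd_of_le (hAB.trans hBC))).trans
      (c.h.card ▸ card_subgroup_dvd_card c.C)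
    norm_num at this
  obtain ⟨P, hP⟩ := (IsPGroup.of_card (G := zpowers (⟨c.x, hxA⟩ : A)) (p := 5) (n := 1)
    (by rw [Nat.card_zpowers, Subgroup.orderOf_mk, c.hx, pow_one])).exists_le_sylow
  have h5A : 5 ∣ Nat.card A := c.hx ▸ A.orderOf_dvd_natCard hxA
  have hP5 := CfsgLib.Transfer.card_sylow_eq_prime P h5A h25
  have hPeq : zpowers (⟨c.x, hxA⟩ : A) = P := eq_of_le_of_card_ge hP (by
    rw [hP5, Nat.card_zpowers, Subgroup.orderOf_mk, c.hx])
  have hcent : ∀ n : A, (n : G) ∈ c.N → (n : G) * c.x = c.x * n := by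
    intro n hn
    -- the intersection is generated by `x` and `s`
    let Z : Subgroup A := centralizer ({⟨c.x, hxA⟩} : Set A) ⊓ c.N.subgroupOf A
    have hxs : orderOf (c.x * c.s) = 10 := by
      rw [(show Commute c.x c.s from c.hsx.symm).orderOf_mul_eq_mul_orderOf_of_coprime
        (by rw [c.hx, c.hs]; norm_num), c.hx, c.hs]
    have hle : zpowers (⟨c.x * c.s, A.mul_mem hxA hsA⟩ : A) ≤ c.N.subgroupOf A :=
      zpowers_le.2 (c.N.mul_mem c.x_memN c.s_memN)
    have heq := eq_of_le_of_card_ge hle (by rw [h10, Nat.card_zpowers, Subgroup.orderOf_mk, hxs])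
    have hn' : n ∈ zpowers (⟨c.x * c.s, A.mul_mem hxA hsA⟩ : A) := by rw [heq]; exact hn
    obtain ⟨i, rfl⟩ := mem_zpowers_iff.1 hn'
    have h1 : Commute (c.x * c.s) c.x :=
      (Commute.refl c.x).mul_left (show Commute c.s c.x from c.hsx)
    have h2 := (h1.zpow_left i).eq
    simpa using h2
  have hle : normalizer ((P : Subgroup A) : Set A) ≤ centralizer ((P : Subgroup A) : Set A) := by
    intro n hn z hz
    rw [← hPeq] at hn hz
    obtain ⟨i, rfl⟩ := mem_zpowers_iff.1 hz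
    have hnN : (n : G) ∈ c.N := by
      refine mem_normalizer_iff.2 fun w => ?_
      constructor
      · intro hw
        obtain ⟨j, rfl⟩ := mem_zpowers_iff.1 hw
        obtain ⟨k, hk⟩ := mem_zpowers_iff.1
          ((mem_normalizer_iff.1 hn ((⟨c.x, hxA⟩ : A) ^ j)).1 (mem_zpowers_iff.2 ⟨j, rfl⟩))
        exact mem_zpowers_iff.2 ⟨k, by simpa using congrArg Subtype.val hk⟩
      · intro hw
        obtain ⟨j, hj⟩ := mem_zpowers_iff.1 hw
        have hwA : w = (((n⁻¹ * (⟨c.x, hxA⟩ : A) ^ j * n : A)) : G) := by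
          simp [hj, mul_assoc]
        have h1 : n * (n⁻¹ * (⟨c.x, hxA⟩ : A) ^ j * n) * n⁻¹ ∈
            zpowers (⟨c.x, hxA⟩ : A) := by
          rw [show n * (n⁻¹ * (⟨c.x, hxA⟩ : A) ^ j * n) * n⁻¹ = (⟨c.x, hxA⟩ : A) ^ j by group]
          exact mem_zpowers_iff.2 ⟨j, rfl⟩
        obtain ⟨k, hk⟩ := mem_zpowers_iff.1 ((mem_normalizer_iff.1 hn _).2 h1)
        rw [hwA, ← hk]
        exact mem_zpowers_iff.2 ⟨k, by simp⟩
    exact Subtype.ext (by
      simpa using ((show Commute (n : G) c.x from hcent n hnN).zpow_right i).eq.symm)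
  have hcompl := MonoidHom.ker_transferSylow_isComplement' P hle
  set Kc := (MonoidHom.transferSylow P hle).ker
  have hcard := hcompl.card_mul_card
  rw [hP5] at hcard
  have hin : ∀ g : A, g ^ Nat.card Kc = 1 → g ∈ Kc := by
    intro g hg
    refine MonoidHom.mem_ker.2 ?_
    have h1 : (MonoidHom.transferSylow P hle g) ^ Nat.card Kc = 1 := by
      rw [← map_pow, hg, map_one]
    have h2 : (MonoidHom.transferSylow P hle g) ^ Nat.card (P : Subgroup A) = 1 := pow_card_eq_one'
    rw [hP5] at h2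
    have hc : Nat.gcd (Nat.card Kc) 5 = 1 := by
      rw [Nat.gcd_comm]
      refine (Nat.Prime.coprime_iff_not_dvd (by norm_num)).2 fun hd => h25 ?_
      rw [← hcard, pow_two]; exact mul_dvd_mul_right hd 5
    have := pow_gcd_eq_one.2 ⟨h1, h2⟩
    rwa [hc, pow_one] at this
  have h5K : ¬ 5 ∣ Nat.card Kc := fun hd => h25 (by
    rw [← hcard, pow_two]; exact mul_dvd_mul_right hd 5)
  have h2K : 2 ∣ Nat.card Kc := by
    have h1 : 2 ∣ Nat.card A := c.hs ▸ A.orderOf_dvd_natCard hsA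
    rw [← hcard] at h1
    exact (Nat.Coprime.dvd_of_dvd_mul_right (by norm_num) h1)
  set K := Kc.map A.subtype
  have hKc : Nat.card K = Nat.card Kc := card_map_of_injective A.subtype_injective
  have hsK : c.s ∈ K := by
    refine ⟨⟨c.s, hsA⟩, hin _ (Subtype.ext ?_), rfl⟩
    obtain ⟨j, hj⟩ := h2K
    show c.s ^ Nat.card Kc = 1
    rw [hj, pow_mul, pow_two, CfsgLib.Invol.invol_mul_self c.hs, one_pow]
  have hnK : ∀ b ∈ B, ∀ k ∈ K, b * k * b⁻¹ ∈ K := by
    rintro b hb _ ⟨g, hg, rfl⟩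
    refine ⟨⟨b * (g : G) * b⁻¹, hnorm b hb _ g.2⟩, hin _ (Subtype.ext ?_), rfl⟩
    have h1 : g ^ Nat.card Kc = 1 :=
      congrArg Subtype.val (pow_card_eq_one' (x := (⟨g, hg⟩ : Kc)))
    show (b * (g : G) * b⁻¹) ^ Nat.card Kc = 1
    rw [conj_pow, ← SubmonoidClass.coe_pow, h1]
    simp
  have h2 := c.card_small hBC hxB ((map_subtype_le _).trans hAB) hnK hsK (by rwa [hKc]) hB
  rw [hKc] at h2
  rw [h2] at hcard
  omega

/-- Sizes of normal subgroups. -/
theorem card_normal {B A : Subgroup G} (hBC : B ≤ c.C) (hxB : c.x ∈ B) (hAB : A ≤ B)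
    (hnorm : ∀ b ∈ B, ∀ a ∈ A, b * a * b⁻¹ ∈ A) (hxA : c.x ∈ A) :
    Nat.card A * Nat.card (c.N.subgroupOf B) = Nat.card B * Nat.card (c.N.subgroupOf A) := by
  let A' : Subgroup B := A.subgroupOf B
  have hAn : A'.Normal := ⟨fun a ha b => hnorm b b.2 _ ha⟩
  let π : c.N.subgroupOf B →* B ⧸ A' := (QuotientGroup.mk' A').comp (c.N.subgroupOf B).subtype
  have hsurj : Function.Surjective π := by
    intro q
    obtain ⟨b, rfl⟩ := QuotientGroup.mk'_surjective A' q
    have hy : orderOf ((b : G) * c.x * (b : G)⁻¹) = 5 := by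
      rw [CfsgLib.Invol.orderOf_conj_eq, c.hx]
    obtain ⟨a, ha, hmem⟩ := c.exists_conj_mem (hAB.trans hBC) hxA hy (hnorm b b.2 _ hxA)
    obtain ⟨i, hi⟩ := mem_zpowers_iff.1 hmem
    have hN : a⁻¹ * (b : G) ∈ c.N := by
      refine mem_normalizer_iff.2 fun w => ?_
      have key : ∀ j : ℤ, a⁻¹ * (b : G) * c.x ^ j * (a⁻¹ * (b : G))⁻¹ = c.x ^ (i * j) := by
        intro j
        rw [← conj_zpow, show a⁻¹ * (b : G) * c.x * (a⁻¹ * (b : G))⁻¹ =
          a⁻¹ * ((b : G) * c.x * (b : G)⁻¹) * a by group, ← hi, conj_zpow,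
          show a⁻¹ * (a * c.x ^ i * a⁻¹) * a = c.x ^ i by group, zpow_mul]
      constructor
      · intro hw
        obtain ⟨j, rfl⟩ := mem_zpowers_iff.1 hw
        exact mem_zpowers_iff.2 ⟨i * j, (key j).symm⟩
      · intro hw
        have hfin : Finite (zpowers c.x) := inferInstance
        have hinj : Function.Injective (fun z : zpowers c.x =>
            (⟨a⁻¹ * (b : G) * z * (a⁻¹ * (b : G))⁻¹, by
              obtain ⟨j, hj⟩ := mem_zpowers_iff.1 z.2
              exact mem_zpowers_iff.2 ⟨i * j, by rw [← hj]; exact (key j).symm⟩⟩ : zpowers c.x)) :=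
          fun z z' hz => Subtype.ext (mul_left_cancel (mul_right_cancel (congrArg Subtype.val hz)))
        obtain ⟨z, hz⟩ := (Finite.injective_iff_surjective.1 hinj) ⟨_, hw⟩
        have := mul_left_cancel (mul_right_cancel (congrArg Subtype.val hz))
        exact this ▸ z.2
    refine ⟨⟨(⟨a, hAB ha⟩ : B)⁻¹ * b, hN⟩, ?_⟩
    show QuotientGroup.mk' A' ((⟨a, hAB ha⟩ : B)⁻¹ * b) = QuotientGroup.mk' A' b
    rw [map_mul, map_inv, show QuotientGroup.mk' A' (⟨a, hAB ha⟩ : B) = 1 from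
      (QuotientGroup.eq_one_iff _).2 ha, inv_one, one_mul]
  have h1 := π.ker.index_mul_card
  rw [index_ker, MonoidHom.range_eq_top.2 hsurj, card_top] at h1
  have h2 : Nat.card π.ker = Nat.card (c.N.subgroupOf A) := Nat.card_congr
    { toFun := fun z => ⟨⟨((z.1 : B) : G), (QuotientGroup.eq_one_iff (z.1 : B)).1 z.2⟩, z.1.2⟩
      invFun := fun z => ⟨⟨⟨((z : A) : G), hAB (z : A).2⟩, z.2⟩,
        (QuotientGroup.eq_one_iff _).2 (z : A).2⟩
      left_inv := fun _ => rfl
      right_inv := fun _ => rfl }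
  have h3 := A'.index_mul_card
  rw [Nat.card_congr (subgroupOfEquivOfLe hAB).toEquiv] at h3
  rw [← h1, h2, ← h3]
  rw [show Nat.card (B ⧸ A') = A'.index from rfl]
  ring

/-- The cover data of `A5`. -/
noncomputable def data5 : CoverData A5 where
  a := va
  b := vb
  r := 2
  ha := va_facts.1
  ha1 := va_facts.2.1
  hb := va_facts.2.2.1
  hb1 := va_facts.2.2.2.1
  hr := ⟨1, le_rfl, rfl⟩
  hab := by rw [pow_two]; exact va_facts.2.2.2.2.2.1
  hhalf := by rw [show 2 / 2 = 1 from rfl, pow_one]; exact va_facts.2.2.2.2.2.2.1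
  hinj := by decide +kernel
  hodd := ⟨15, by decide, by rw [card_A5]⟩
  conj := invol5_conj

/-- The cover data of `A6`. -/
noncomputable def data6 : CoverData A6 where
  a := ua
  b := ub
  r := 4
  ha := ua_facts.1
  ha1 := ua_facts.2.1
  hb := ua_facts.2.2.1
  hb1 := ua_facts.2.2.2.1
  hr := ⟨2, by norm_num, rfl⟩
  hab := ua_facts.2.2.2.2.2.1
  hhalf := ua_facts.2.2.2.2.2.2.1
  hinj := by decide +kernel
  hodd := ⟨45, by decide, by rw [card_A6]⟩
  conj := invol6_conj

theorem card_inter_C : Nat.card (c.N.subgroupOf c.C) = 40 := by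
  rw [Nat.card_congr (subgroupOfEquivOfLe c.N_le).toEquiv, c.card_N]

theorem inter_cases {A : Subgroup G} (hxA : c.x ∈ A) (hsA : c.s ∈ A) :
    Nat.card (c.N.subgroupOf A) = 10 ∨ Nat.card (c.N.subgroupOf A) = 20 ∨
      Nat.card (c.N.subgroupOf A) = 40 := by
  have h1 : Nat.card (c.N.subgroupOf A) ∣ 40 := by
    have e : Nat.card ((c.N.subgroupOf A).map A.subtype) = Nat.card (c.N.subgroupOf A) :=
      card_map_of_injective A.subtype_injective
    rw [← c.card_N, ← e]
    exact card_dvd_of_le (by rintro _ ⟨z, hz, rfl⟩; exact hz)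
  have h5 : 5 ∣ Nat.card (c.N.subgroupOf A) := by
    have := (c.N.subgroupOf A).orderOf_dvd_natCard (x := ⟨c.x, hxA⟩) c.x_memN
    rwa [Subgroup.orderOf_mk, c.hx] at this
  have h2 : 2 ∣ Nat.card (c.N.subgroupOf A) := by
    have := (c.N.subgroupOf A).orderOf_dvd_natCard (x := ⟨c.s, hsA⟩) c.s_memN
    rwa [Subgroup.orderOf_mk, c.hs] at this
  have hall : ∀ k ∈ Nat.divisors 40, 5 ∣ k → 2 ∣ k → k = 10 ∨ k = 20 ∨ k = 40 := by decide +kernel
  exact hall _ (Nat.mem_divisors.2 ⟨h1, by norm_num⟩) h5 h2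

theorem mem_of_five {B A : Subgroup G} (hBC : B ≤ c.C) (hxB : c.x ∈ B) (hAB : A ≤ B)
    (hnorm : ∀ b ∈ B, ∀ a ∈ A, b * a * b⁻¹ ∈ A) (h5 : 5 ∣ Nat.card A) : c.x ∈ A := by
  have : Fact (Nat.Prime 5) := ⟨by norm_num⟩
  obtain ⟨⟨y, hyA⟩, hy⟩ := exists_prime_orderOf_dvd_card' (G := A) 5 h5
  rw [Subgroup.orderOf_mk] at hy
  obtain ⟨b, hb, hmem⟩ := c.exists_conj_mem hBC hxB hy (hAB hyA)
  have h1 : b * c.x * b⁻¹ ∈ zpowers y := by
    have h5x : orderOf (b * c.x * b⁻¹) = 5 := by rw [CfsgLib.Invol.orderOf_conj_eq, c.hx]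
    have heq : zpowers y = zpowers (b * c.x * b⁻¹) := eq_of_le_of_card_ge (zpowers_le.2 hmem)
      (by rw [Nat.card_zpowers, Nat.card_zpowers, hy, h5x])
    rw [heq]; exact mem_zpowers _
  have h2 := hnorm b⁻¹ (B.inv_mem hb) _ ((zpowers_le.2 hyA) h1)
  simpa [mul_assoc] using h2

/-- Quotient of a subgroup of the centraliser by `<s>`. -/
def Z (A : Subgroup G) : Subgroup A := (zpowers c.s).subgroupOf A

theorem mem_zpowers_s {g : G} (hg : g ∈ zpowers c.s) : g = 1 ∨ g = c.s := by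
  obtain ⟨i, rfl⟩ := mem_zpowers_iff.1 hg
  have hs2 : c.s ^ (2 : ℤ) = 1 := by
    rw [zpow_two]; exact CfsgLib.Invol.invol_mul_self c.hs
  rcases Int.even_or_odd i with ⟨k, rfl⟩ | ⟨k, rfl⟩
  · left; rw [← two_mul, zpow_mul, hs2, one_zpow]
  · right; rw [zpow_add, zpow_mul, hs2, one_zpow, one_mul, zpow_one]

theorem Z_normal {A : Subgroup G} (hA : A ≤ c.C) : (c.Z A).Normal := ⟨fun z hz a => by
  show (a : G) * (z : G) * (a : G)⁻¹ ∈ zpowers c.s
  rcases c.mem_zpowers_s (show (z : G) ∈ zpowers c.s from hz) with e | e <;> rw [e]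
  · simp
  · rw [show (a : G) * c.s * (a : G)⁻¹ = c.s from mul_inv_eq_iff_eq_mul.2 (c.mem_C.1 (hA a.2))]
    exact mem_zpowers _⟩

theorem card_Z {A : Subgroup G} (hsA : c.s ∈ A) : Nat.card (c.Z A) = 2 := by
  rw [Z, Nat.card_congr (subgroupOfEquivOfLe (zpowers_le.2 hsA)).toEquiv, Nat.card_zpowers, c.hs]

theorem exists_H : ∃ H : Subgroup G, H ≤ c.C ∧ (∀ b ∈ c.C, ∀ a ∈ H, b * a * b⁻¹ ∈ H) ∧
    c.s ∈ H ∧ c.x ∈ H ∧ 2 * Nat.card H = Nat.card c.C := by
  obtain ⟨m, hm, hm'⟩ := c.card_C_eq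
  have := c.Z_normal (le_refl c.C)
  set X := c.C ⧸ c.Z c.C
  have hX : Nat.card X = 20 * m := by
    have h1 := (c.Z c.C).index_mul_card
    rw [c.card_Z c.s_mem, hm] at h1
    show (c.Z c.C).index = 20 * m
    omega
  have hnab : ¬ IsMulCommutative X := by
    intro hc
    have hN : c.N ≤ centralizer ({c.x} : Set G) := by
      intro n hn
      have h1 : (QuotientGroup.mk' (c.Z c.C)) (⟨n, c.N_le hn⟩ * ⟨c.x, c.x_mem⟩ *
          (⟨n, c.N_le hn⟩ : c.C)⁻¹ * (⟨c.x, c.x_mem⟩ : c.C)⁻¹) = 1 := by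
        simp only [map_mul, map_inv]
        rw [hc.is_comm.comm (QuotientGroup.mk' (c.Z c.C) ⟨n, c.N_le hn⟩)]
        group
      have h2 : n * c.x * n⁻¹ * c.x⁻¹ ∈ zpowers c.s :=
        (show (⟨n, c.N_le hn⟩ * ⟨c.x, c.x_mem⟩ * (⟨n, c.N_le hn⟩ : c.C)⁻¹ *
          (⟨c.x, c.x_mem⟩ : c.C)⁻¹) ∈ c.Z c.C from (QuotientGroup.eq_one_iff _).1 h1)
      have h3 : n * c.x * n⁻¹ * c.x⁻¹ ∈ zpowers c.x :=
        mul_mem ((mem_normalizer_iff.1 hn c.x).1 (mem_zpowers _)) (inv_mem (mem_zpowers _))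
      rcases c.mem_zpowers_s h2 with e | e
      · exact mem_centralizer_singleton_iff.2
          (mul_inv_eq_iff_eq_mul.1 (mul_inv_eq_one.1 e))
      · exfalso
        rw [e] at h3
        have := orderOf_dvd_of_mem_zpowers h3
        rw [c.hs, c.hx] at this
        norm_num at this
    have := card_dvd_of_le hN
    rw [c.card_N, card_cent_five c.h c.hx] at this
    norm_num at this
  have hns : ¬ IsSimpleGroup X := by
    intro hsim
    rcases hm' with rfl | rfl
    · have := card_mem_of_le_1092 hnab (by rw [hX]; norm_num)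
      rw [hX] at this
      norm_num at this
    · exact card_ne_720 hnab (by rw [hX])
  have hnt : Nontrivial X := Finite.one_lt_card_iff_nontrivial.1
    (by rw [hX]; rcases hm' with rfl | rfl <;> norm_num)
  obtain ⟨A', hA', hA'b, hA't⟩ : ∃ A' : Subgroup X, A'.Normal ∧ A' ≠ ⊥ ∧ A' ≠ ⊤ := by
    by_contra hcon
    push Not at hcon
    exact hns ⟨fun A hA => (em (A = ⊥)).imp id fun hne => hcon A hA hne⟩
  set AC := A'.comap (QuotientGroup.mk' (c.Z c.C))
  set A := AC.map c.C.subtype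
  have hAC : A ≤ c.C := map_subtype_le _
  have hnorm : ∀ b ∈ c.C, ∀ a ∈ A, b * a * b⁻¹ ∈ A := by
    rintro b hb _ ⟨a, ha, rfl⟩
    exact ⟨⟨b, hb⟩ * a * ⟨b, hb⟩⁻¹, (hA'.comap _).conj_mem a ha _, rfl⟩
  have hsA : c.s ∈ A := ⟨⟨c.s, c.s_mem⟩, by
    show QuotientGroup.mk' (c.Z c.C) ⟨c.s, c.s_mem⟩ ∈ A'
    rw [show QuotientGroup.mk' (c.Z c.C) (⟨c.s, c.s_mem⟩ : c.C) = 1 from
      (QuotientGroup.eq_one_iff _).2 (mem_zpowers c.s)]
    exact A'.one_mem, rfl⟩
  have hcardA : Nat.card A = 2 * Nat.card A' := by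
    rw [card_map_of_injective c.C.subtype_injective]
    have h1 := AC.index_mul_card
    have hi : AC.index = A'.index :=
      index_comap_of_surjective _ (QuotientGroup.mk'_surjective _)
    rw [hi, Nat.card_congr (Equiv.refl c.C), hm] at h1
    have h2 := A'.index_mul_card
    rw [hX] at h2
    have h3 : A'.index * Nat.card AC = A'.index * (2 * Nat.card A') := by
      rw [h1, mul_left_comm, h2]; ring
    exact Nat.eq_of_mul_eq_mul_left (Nat.pos_of_ne_zero index_ne_zero_of_finite) h3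
  have h5 : 5 ∣ Nat.card A := by
    by_contra h5
    have := c.card_small le_rfl c.x_mem hAC hnorm hsA h5 (Or.inl rfl)
    exact hA'b (card_eq_one.1 (by omega))
  have hxA := c.mem_of_five le_rfl c.x_mem hAC hnorm h5
  have hcn := c.card_normal le_rfl c.x_mem hAC hnorm hxA
  rw [c.card_inter_C, hm] at hcn
  refine ⟨A, hAC, hnorm, hsA, hxA, ?_⟩
  rcases c.inter_cases hxA hsA with e | e | e
  · refine absurd e (c.card_inter_ne_ten le_rfl c.x_mem hAC hnorm hxA hsA (Or.inl rfl) fun h10 => ?_)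
    rw [e, h10] at hcn
    rcases hm' with rfl | rfl <;> omega
  · rw [e] at hcn
    rw [hm]; omega
  · exfalso
    rw [e] at hcn
    refine hA't (eq_top_of_card_eq _ ?_)
    rw [hX]; omega

/-- The centraliser contains an invariant copy of `A5` or of `A6`. -/
theorem exists_loc : (Nat.card c.C = 240 ∧ Nonempty (Loc G A5 c.s)) ∨
    (Nat.card c.C = 1440 ∧ Nonempty (Loc G A6 c.s)) := by
  obtain ⟨m, hm, hm'⟩ := c.card_C_eq
  obtain ⟨H, hHC, hnorm, hsH, hxH, hcardH⟩ := c.exists_H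
  have := c.Z_normal hHC
  have hH20 : Nat.card H = 20 * m := by omega
  have h32 : ¬ 32 ∣ Nat.card H := by
    rw [hH20]; rcases hm' with rfl | rfl <;> norm_num
  have hinH : Nat.card (c.N.subgroupOf H) = 20 := by
    have hcn := c.card_normal le_rfl c.x_mem hHC hnorm hxH
    rw [c.card_inter_C, hm, hH20] at hcn
    rcases hm' with rfl | rfl <;> omega
  have hQ : Nat.card (H ⧸ c.Z H) = 10 * m := by
    have h1 := (c.Z H).index_mul_card
    rw [c.card_Z hsH, hH20] at h1
    show (c.Z H).index = 10 * m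
    omega
  have hnt : Nontrivial (H ⧸ c.Z H) := Finite.one_lt_card_iff_nontrivial.1
    (by rw [hQ]; rcases hm' with rfl | rfl <;> norm_num)
  have hsim : IsSimpleGroup (H ⧸ c.Z H) := by
    refine ⟨fun A' hA' => ?_⟩
    set AH := A'.comap (QuotientGroup.mk' (c.Z H))
    set A := AH.map H.subtype
    have hAH : A ≤ H := map_subtype_le _
    have hnA : ∀ b ∈ H, ∀ a ∈ A, b * a * b⁻¹ ∈ A := by
      rintro b hb _ ⟨a, ha, rfl⟩
      exact ⟨⟨b, hb⟩ * a * ⟨b, hb⟩⁻¹, (hA'.comap _).conj_mem a ha _, rfl⟩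
    have hsA : c.s ∈ A := ⟨⟨c.s, hsH⟩, by
      show QuotientGroup.mk' (c.Z H) ⟨c.s, hsH⟩ ∈ A'
      rw [show QuotientGroup.mk' (c.Z H) (⟨c.s, hsH⟩ : H) = 1 from
        (QuotientGroup.eq_one_iff _).2 (mem_zpowers c.s)]
      exact A'.one_mem, rfl⟩
    have hcardA : Nat.card A = 2 * Nat.card A' := by
      rw [card_map_of_injective H.subtype_injective]
      have h1 := AH.index_mul_card
      rw [show AH.index = A'.index from
        index_comap_of_surjective _ (QuotientGroup.mk'_surjective _), hH20] at h1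
      have h2 := A'.index_mul_card
      rw [hQ] at h2
      have h3 : A'.index * Nat.card AH = A'.index * (2 * Nat.card A') := by
        rw [h1, mul_left_comm, h2]; ring
      exact Nat.eq_of_mul_eq_mul_left (Nat.pos_of_ne_zero index_ne_zero_of_finite) h3
    by_cases h5 : 5 ∣ Nat.card A
    · right
      have hxA := c.mem_of_five hHC hxH hAH hnA h5
      have hcn := c.card_normal hHC hxH hAH hnA hxA
      rw [hinH, hH20] at hcn
      have hd : Nat.card (c.N.subgroupOf A) ∣ 20 := by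
        rw [← hinH]
        exact card_dvd_of_injective
          ((H.subtype.comp (c.N.subgroupOf H).subtype).comp (MonoidHom.id _) |> fun _ =>
            (Subgroup.inclusion hAH).subgroupMap (c.N.subgroupOf A) |> fun f =>
              (Subgroup.inclusion (show (c.N.subgroupOf A).map (Subgroup.inclusion hAH) ≤
                c.N.subgroupOf H by rintro _ ⟨z, hz, rfl⟩; exact hz)).comp f)
          (fun z z' hz => Subtype.ext (Subtype.ext
            (congrArg (fun w : c.N.subgroupOf H => ((w : H) : G)) hz)))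
      rcases c.inter_cases hxA hsA with e | e | e
      · refine absurd e (c.card_inter_ne_ten hHC hxH hAH hnA hxA hsA (Or.inr h32) fun h10 => ?_)
        rw [e, h10] at hcn
        rcases hm' with rfl | rfl <;> omega
      · rw [e] at hcn
        exact eq_top_of_card_eq _ (by rw [hQ]; omega)
      · rw [e] at hd; norm_num at hd
    · left
      have := c.card_small hHC hxH hAH hnA hsA h5 (Or.inr h32)
      exact card_eq_one.1 (by omega)
  have hsyl : ∀ U : Subgroup G, IsPGroup 2 U → U ≤ c.C →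
      ∃ T : Subgroup G, IsPGroup 2 T ∧ U < T := by
    have : Fact (Nat.Prime 2) := ⟨Nat.prime_two⟩
    intro U hU hUC
    obtain ⟨T, hT⟩ := hU.exists_le_sylow
    refine ⟨T, T.2, lt_of_le_of_ne hT fun e => ?_⟩
    have h64 : 2 ^ 6 ∣ Nat.card (T : Subgroup G) := by
      refine T.pow_dvd_card_of_pow_dvd_card ?_
      rw [c.h.card]; norm_num
    rw [← e] at h64
    have := h64.trans (card_dvd_of_le hUC)
    rw [hm] at this
    rcases hm' with rfl | rfl <;> norm_num at this
  have hfive : ∀ y : G, orderOf y = 5 → y * c.s = c.s * y → y ∈ H := by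
    intro y hy hys
    obtain ⟨b, hb, hmem⟩ := c.exists_conj_mem le_rfl c.x_mem hy (c.mem_C.2 hys)
    exact zpowers_le.2 (hnorm b hb _ hxH) hmem
  have hker : ∀ {M : Type} [Group M] (e : H ⧸ c.Z H ≃* M) (g : H),
      e.toMonoidHom.comp (QuotientGroup.mk' (c.Z H)) g = 1 ↔ (g : G) = 1 ∨ (g : G) = c.s := by
    intro M _ e g
    rw [MonoidHom.comp_apply, MulEquiv.coe_toMonoidHom, MulEquiv.map_eq_one_iff,
      QuotientGroup.mk'_apply, QuotientGroup.eq_one_iff]
    exact ⟨c.mem_zpowers_s, fun hh => by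
      rcases hh with e' | e'
      · show (g : G) ∈ zpowers c.s
        rw [e']; exact one_mem _
      · show (g : G) ∈ zpowers c.s
        rw [e']; exact mem_zpowers _⟩
  rcases hm' with rfl | rfl
  · left
    have := simple_A5
    obtain ⟨e⟩ := nonempty_equiv_sixty (G := H ⧸ c.Z H) (H := A5) (by rw [hQ]) card_A5
    exact ⟨by rw [hm], M12Nse.exists_loc
      (CfsgLib.Transfer.not_isMulCommutative_of_not_prime (by rw [card_A5]; norm_num))
      data5 c.hs (C := c.C) rfl (by rw [hm, card_A5]) hsyl H hHC hnorm hsH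
      (e.toMonoidHom.comp (QuotientGroup.mk' (c.Z H)))
      (e.surjective.comp (QuotientGroup.mk'_surjective _)) (hker e) hfive⟩
  · right
    have := simple_A6
    obtain ⟨e⟩ := nonempty_equiv_360 (G := H ⧸ c.Z H) (H := A6) (by rw [hQ]) card_A6
    exact ⟨by rw [hm], M12Nse.exists_loc
      (CfsgLib.Transfer.not_isMulCommutative_of_not_prime (by rw [card_A6]; norm_num))
      data6 c.hs (C := c.C) rfl (by rw [hm, card_A6]) hsyl H hHC hnorm hsH
      (e.toMonoidHom.comp (QuotientGroup.mk' (c.Z H)))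
      (e.surjective.comp (QuotientGroup.mk'_surjective _)) (hker e) hfive⟩

end Ctx

end CfsgLib.ClassK.M12Nse
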