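import Cfsg.Agent.Lib.Invol.Basic
import Cfsg.Agent.Lib.Chev.ZassSharp
import Mathlib.Combinatorics.Enumerative.DoubleCounting
import Mathlib.Tactic

/-!
Counting tools: classes, commuting pairs of two classes, the sign of an involution on a class, fixed
points of a `p`-subgroup acting by conjugation.
-/

set_option autoImplicit false

namespace CfsgLib.ClassK.M12Nse

open Subgroup

universe u

variable {G : Type u} [Group G]

/-- The class of `a`. -/
def cl (a : G) : Set G := {t | IsConj a t}

/-- The members of `A` commuting with `y`. -/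
def fixIn (A : Set G) (y : G) : Set G := {t | t ∈ A ∧ y * t = t * y}

theorem mem_cl {a t : G} : t ∈ cl a ↔ IsConj a t := Iff.rfl

theorem mem_cl_self (a : G) : a ∈ cl a := IsConj.refl a

theorem conj_mem_cl {a t : G} (g : G) (h : t ∈ cl a) : g * t * g⁻¹ ∈ cl a :=
  IsConj.trans (c := g * t * g⁻¹) h (isConj_iff.2 ⟨g, rfl⟩)

theorem cl_eq {a t : G} (h : t ∈ cl a) : cl t = cl a := by
  ext u
  exact ⟨fun hu => IsConj.trans (show IsConj a t from h) hu,
    fun hu => IsConj.trans (show IsConj a t from h).symm hu⟩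

theorem cl_disjoint {a b : G} (h : ¬ IsConj a b) : Disjoint (cl a) (cl b) :=
  Set.disjoint_left.2 fun _ h1 h2 => h (IsConj.trans (show IsConj a _ from h1)
    (show IsConj b _ from h2).symm)

theorem orderOf_mem_cl {a t : G} (h : t ∈ cl a) : orderOf t = orderOf a :=
  CfsgLib.Invol.orderOf_eq_of_isConj h

theorem mem_fixIn {A : Set G} {y t : G} : t ∈ fixIn A y ↔ t ∈ A ∧ y * t = t * y := Iff.rfl

variable [Finite G]

theorem ncard_cl_mul (a : G) :
    (cl a).ncard * Nat.card (centralizer ({a} : Set G)) = Nat.card G := by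
  rw [← Nat.card_coe_set_eq]
  exact CfsgLib.Invol.card_class_mul_card_centralizer a

theorem ncard_cl_pos (a : G) : 0 < (cl a).ncard :=
  (Set.ncard_pos (Set.toFinite _)).2 ⟨a, mem_cl_self a⟩

theorem ncard_fixIn_conj (A : Set G) (hA : ∀ g, ∀ t ∈ A, g * t * g⁻¹ ∈ A) {y y' : G}
    (h : IsConj y y') : (fixIn A y').ncard = (fixIn A y).ncard := by
  have key : ∀ y g : G, (fixIn A y).ncard ≤ (fixIn A (g * y * g⁻¹)).ncard := by
    intro y g
    refine Set.ncard_le_ncard_of_injOn (fun t => g * t * g⁻¹) ?_ ?_ (Set.toFinite _)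
    · rintro t ⟨h1, h2⟩
      refine ⟨hA g t h1, ?_⟩
      calc g * y * g⁻¹ * (g * t * g⁻¹) = g * (y * t) * g⁻¹ := by group
        _ = g * (t * y) * g⁻¹ := by rw [h2]
        _ = g * t * g⁻¹ * (g * y * g⁻¹) := by group
    · intro a _ b _ hab
      simpa using hab
  obtain ⟨g, rfl⟩ := isConj_iff.1 h
  refine le_antisymm ?_ (key y g)
  have := key (g * y * g⁻¹) g⁻¹
  rwa [show g⁻¹ * (g * y * g⁻¹) * g⁻¹⁻¹ = y by group] at this

/-- Commuting pairs of two classes, counted both ways. -/
theorem cl_pairs (a b : G) :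
    (cl a).ncard * (fixIn (cl b) a).ncard = (cl b).ncard * (fixIn (cl a) b).ncard := by
  classical
  have := Fintype.ofFinite G
  have hab : ∀ c : G, (cl c).ncard = (Finset.univ.filter (IsConj c)).card := fun c => by
    rw [← Set.ncard_coe_finset]; congr 1; ext; simp only [Finset.coe_filter, Finset.mem_univ,
      true_and, cl]
  have hf : ∀ c y : G, (fixIn (cl c) y).ncard =
      ((Finset.univ.filter (IsConj c)).filter fun t => y * t = t * y).card := fun c y => by
    rw [← Set.ncard_coe_finset]; congr 1; ext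
    simp only [Finset.coe_filter, Finset.mem_filter, Finset.mem_univ, true_and, fixIn, cl]
    exact Iff.rfl
  have h := Finset.sum_card_bipartiteAbove_eq_sum_card_bipartiteBelow
    (s := Finset.univ.filter (IsConj a)) (t := Finset.univ.filter (IsConj b))
    (fun u v : G => u * v = v * u)
  rw [Finset.sum_const_nat (m := (fixIn (cl b) a).ncard),
    Finset.sum_const_nat (m := (fixIn (cl a) b).ncard), ← hab, ← hab] at h
  · exact h
  · intro v hv
    rw [← ncard_fixIn_conj (cl a) (fun g t => conj_mem_cl g) (Finset.mem_filter.1 hv).2, hf]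
    simp only [Finset.bipartiteBelow]
    congr 1
    exact Finset.filter_congr fun u _ => ⟨fun h => h.symm, fun h => h.symm⟩
  · intro u hu
    rw [← ncard_fixIn_conj (cl b) (fun g t => conj_mem_cl g) (Finset.mem_filter.1 hu).2, hf]
    rfl

/-- Conjugation on a class. -/
noncomputable def clPerm (a : G) : G →* Equiv.Perm (cl a) where
  toFun g := Equiv.subtypeEquiv (MulAut.conj g).toEquiv fun t => by
    refine ⟨fun h => conj_mem_cl g h, fun h => ?_⟩
    have := conj_mem_cl g⁻¹ h
    simpa [mul_assoc] using this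
  map_one' := by ext t; simp
  map_mul' g h := by ext t; simp [mul_assoc]

theorem clPerm_apply (a g : G) (t : cl a) : (clPerm a g t : G) = g * t * g⁻¹ := rfl

/-- In a simple group an involution moves a multiple of four members of every class. -/
theorem four_dvd_moved [IsSimpleGroup G] (hG : ¬ IsMulCommutative G) (a : G) {y : G}
    (hy : y * y = 1) : 4 ∣ (cl a).ncard - (fixIn (cl a) y).ncard := by
  classical
  have := Fintype.ofFinite G
  set u : G →* ℤˣ := Equiv.Perm.sign.comp (clPerm a) with hu
  have heven : Equiv.Perm.sign (clPerm a y) = 1 := by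
    rcases u.normal_ker.eq_bot_or_eq_top with hk | hk
    · exact absurd ⟨⟨fun b c => (MonoidHom.ker_eq_bot_iff u).1 hk
        (by rw [map_mul, map_mul, mul_comm])⟩⟩ hG
    · have h : u y = 1 := MonoidHom.mem_ker.1 (hk ▸ Subgroup.mem_top y)
      exact h
  have h := CfsgLib.Chev.ZassSharp.sign_involution (σ := clPerm a y) (by rw [← map_mul, hy, map_one]) heven
  have hfix : (Finset.univ.filter fun t : cl a => clPerm a y t = t).card =
      (fixIn (cl a) y).ncard := by
    rw [← Fintype.card_subtype, ← Nat.card_eq_fintype_card, ← Nat.card_coe_set_eq]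
    refine Nat.card_congr ⟨fun t => ⟨t.1.1, t.1.2, ?_⟩, fun t => ⟨⟨t.1, t.2.1⟩, ?_⟩,
      fun _ => rfl, fun _ => rfl⟩
    · have := congrArg Subtype.val t.2
      rw [clPerm_apply] at this
      exact mul_inv_eq_iff_eq_mul.1 this
    · exact Subtype.ext (mul_inv_eq_iff_eq_mul.2 t.2.2)
  have hsum := Finset.card_filter_add_card_filter_not (s := (Finset.univ : Finset (cl a)))
    (fun t => clPerm a y t = t)
  rw [hfix, Finset.card_univ, ← Nat.card_eq_fintype_card, Nat.card_coe_set_eq] at hsum
  have hsupp : (clPerm a y).support =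
      Finset.univ.filter fun t : cl a => ¬ clPerm a y t = t := by
    ext t; simp
  rw [hsupp] at h
  rwa [show (cl a).ncard - (fixIn (cl a) y).ncard =
    (Finset.univ.filter fun t : cl a => ¬ clPerm a y t = t).card by omega]

/-- Fixed points of a `p`-subgroup acting by conjugation. -/
theorem ncard_modEq_fixed {p : ℕ} [Fact p.Prime] {K : Subgroup G} (hK : IsPGroup p K) (A : Set G)
    (hA : ∀ k ∈ K, ∀ t ∈ A, k * t * k⁻¹ ∈ A) :
    A.ncard ≡ {t | t ∈ A ∧ ∀ k ∈ K, k * t = t * k}.ncard [MOD p] := by
  let _ : MulAction K A :=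
    { smul := fun k t => ⟨(k : G) * t * (k : G)⁻¹, hA k k.2 t t.2⟩
      one_smul := fun t => Subtype.ext (show (1 : G) * t * (1 : G)⁻¹ = t by simp)
      mul_smul := fun k l t => Subtype.ext
        (show (k : G) * l * t * ((k : G) * l)⁻¹ = k * (l * t * (l : G)⁻¹) * (k : G)⁻¹ by group) }
  have h := hK.card_modEq_card_fixedPoints A
  rw [Nat.card_coe_set_eq] at h
  refine h.trans (Nat.modEq_of_dvd ?_)
  rw [show Nat.card (MulAction.fixedPoints K A) =
      {t | t ∈ A ∧ ∀ k ∈ K, k * t = t * k}.ncard from ?_]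
  · simp
  rw [← Nat.card_coe_set_eq]
  refine Nat.card_congr ⟨fun t => ⟨t.1.1, t.1.2, fun k hk =>
    mul_inv_eq_iff_eq_mul.1 (congrArg Subtype.val (t.2 ⟨k, hk⟩))⟩,
    fun t => ⟨⟨t.1, t.2.1⟩, fun k => Subtype.ext (mul_inv_eq_iff_eq_mul.2 (t.2.2 k k.2))⟩,
    fun _ => rfl, fun _ => rfl⟩

/-- The number of solutions of `g ^ p = 1` is a multiple of `p`. -/
theorem dvd_ncard_pow_eq_one {p : ℕ} [hp : Fact p.Prime] (hd : p ∣ Nat.card G) :
    p ∣ {g : G | g ^ p = 1}.ncard := by
  obtain ⟨P⟩ : Nonempty (Sylow p G) := inferInstance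
  have h := ncard_modEq_fixed P.2 {g : G | g ^ p = 1} (fun k _ t ht => by
    show (k * t * k⁻¹) ^ p = 1
    rw [conj_pow, show t ^ p = 1 from ht]; group)
  refine (Nat.ModEq.dvd_iff h dvd_rfl).2 ?_
  -- the fixed points form a nontrivial `p`-group
  let F : Subgroup G :=
    { carrier := {g | g ∈ (center (P : Subgroup G)).map (P : Subgroup G).subtype ∧ g ^ p = 1}
      one_mem' := ⟨Subgroup.one_mem _, one_pow p⟩
      mul_mem' := fun {a b} ha hb => by
        refine ⟨Subgroup.mul_mem _ ha.1 hb.1, ?_⟩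
        obtain ⟨a', ha', rfl⟩ := ha.1
        obtain ⟨b', hb', rfl⟩ := hb.1
        have hc : Commute ((P : Subgroup G).subtype a') ((P : Subgroup G).subtype b') :=
          Commute.map (show Commute a' b' from (mem_center_iff.1 ha' b').symm) _
        rw [hc.mul_pow, ha.2, hb.2, one_mul]
      inv_mem' := fun {a} ha => ⟨Subgroup.inv_mem _ ha.1, by rw [inv_pow, ha.2, inv_one]⟩ }
  have hFP : F ≤ (P : Subgroup G) := fun g hg => by
    obtain ⟨a', -, rfl⟩ := hg.1
    exact a'.2
  have hset : {t | t ∈ {g : G | g ^ p = 1} ∧ ∀ k ∈ (P : Subgroup G), k * t = t * k} =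
      (F : Set G) := by
    ext t
    constructor
    · rintro ⟨h1, h2⟩
      have htP : t ∈ (P : Subgroup G) := by
        have hzp : IsPGroup p (zpowers t) := by
          obtain ⟨k, -, hk⟩ := (Nat.dvd_prime_pow hp.out (i := orderOf t) (m := 1)).1
            (by rw [pow_one]; exact orderOf_dvd_of_pow_eq_one h1)
          exact IsPGroup.of_card (n := k) (by rw [Nat.card_zpowers, hk])
        have hle : zpowers t ≤ normalizer ((P : Subgroup G) : Set G) := by
          rw [zpowers_le, mem_normalizer_iff]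
          intro k
          constructor
          · intro hk
            rw [show t * k * t⁻¹ = k by rw [← h2 k hk]; group]
            exact hk
          · intro hk
            have h3 := h2 _ hk
            rw [show k = t * k * t⁻¹ by
              have h4 : t * k * t⁻¹ * t = t * (t * k * t⁻¹) := h3
              have h5 : t * k = t * (t * k * t⁻¹) := by simpa [mul_assoc] using h4
              exact mul_left_cancel h5]
            exact hk
        have hjoin := hzp.to_sup_of_normal_right' P.2 hle
        rw [← P.3 hjoin le_sup_right]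
        exact mem_sup_left (mem_zpowers t)
      exact ⟨⟨⟨t, htP⟩, mem_center_iff.2 fun k => Subtype.ext (h2 k k.2), rfl⟩, h1⟩
    · rintro ⟨⟨t', ht', rfl⟩, h1⟩
      exact ⟨h1, fun k hk => congrArg Subtype.val (mem_center_iff.1 ht' ⟨k, hk⟩)⟩
  rw [hset, ← Nat.card_coe_set_eq]
  have hP1 : Nontrivial (P : Subgroup G) := by
    rw [← Finite.one_lt_card_iff_nontrivial]
    have := P.dvd_card_of_dvd_card hd
    exact lt_of_lt_of_le hp.out.one_lt (Nat.le_of_dvd Nat.card_pos this)
  have hZ : p ∣ Nat.card (center (P : Subgroup G)) := by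
    haveI := P.2.center_nontrivial
    obtain ⟨n, hn, hcard⟩ := (P.2.to_subgroup (center _)).nontrivial_iff_card.1 inferInstance
    rw [hcard]; exact dvd_pow_self p (by omega)
  obtain ⟨z, hz⟩ := exists_prime_orderOf_dvd_card' p hZ
  have hzmem : ((z : (P : Subgroup G)) : G) ∈ F :=
    ⟨⟨z, z.2, rfl⟩, by
      have h1 := pow_orderOf_eq_one z
      rw [hz] at h1
      exact congrArg (fun w : center (P : Subgroup G) => ((w : (P : Subgroup G)) : G)) h1⟩
  have := F.orderOf_dvd_natCard hzmem
  rwa [orderOf_coe, orderOf_coe, hz] at this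

end CfsgLib.ClassK.M12Nse
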