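import Cfsg.Agent.Lib.ClassK.M12Nse.Count
import Cfsg.Agent.Lib.Transfer.SimpleCount
import Cfsg.Agent.Lib.Transfer.PrimeSylow
import Cfsg.Agent.Lib.Coprime.Sylow

/-!
A group of order 95040 whose numbers of elements of given orders take the values of M12: simplicity,
the normalisers of its Sylow 5- and 11-subgroups, the involution centralising an element of order 5.
-/

set_option autoImplicit false
set_option linter.unusedSectionVars false

namespace CfsgLib.ClassK.M12Nse

open Subgroup

universe u

/-- The values. -/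
def vals : List ℕ := [1, 891, 4400, 5940, 9504, 17280, 23760]

/-- The hypotheses on the group. -/
structure Hyp (G : Type u) [Group G] : Prop where
  card : Nat.card G = 95040
  val : ∀ n : ℕ, 0 < Nat.card {g : G // orderOf g = n} → Nat.card {g : G // orderOf g = n} ∈ vals

variable {G : Type u} [Group G] [Finite G]

theorem Hyp.pos (h : Hyp G) {p : ℕ} [Fact p.Prime] (hp : p ∣ 95040) :
    0 < Nat.card {g : G // orderOf g = p} := by
  obtain ⟨g, hg⟩ := exists_prime_orderOf_dvd_card' (G := G) p (h.card ▸ hp)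
  have : Nonempty {g : G // orderOf g = p} := ⟨⟨g, hg⟩⟩
  exact Nat.card_pos

theorem ncard_pow_eq_one {p : ℕ} [hp : Fact p.Prime] :
    {g : G | g ^ p = 1}.ncard = Nat.card {g : G // orderOf g = p} + 1 := by
  have e : {g : G | g ^ p = 1} = insert 1 {g : G | orderOf g = p} := by
    ext g
    simp only [Set.mem_insert_iff]
    constructor
    · intro hg
      rcases (Nat.dvd_prime hp.out).1 (orderOf_dvd_of_pow_eq_one hg) with h | h
      · exact Or.inl (orderOf_eq_one_iff.1 h)
      · exact Or.inr h
    · rintro (rfl | hg)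
      · exact one_pow p
      · show g ^ p = 1
        rw [← show orderOf g = p from hg]
        exact pow_orderOf_eq_one g
  rw [e, Set.ncard_insert_of_notMem (fun h => hp.out.ne_one (by
    have : orderOf (1 : G) = p := h
    rw [orderOf_one] at this; exact this.symm)) (Set.toFinite _), ← Nat.card_coe_set_eq]
  rfl

theorem Hyp.cnt_two (h : Hyp G) : Nat.card {g : G // orderOf g = 2} = 891 ∨
    Nat.card {g : G // orderOf g = 2} = 1 := by
  have : Fact (Nat.Prime 2) := ⟨Nat.prime_two⟩
  have hd := dvd_ncard_pow_eq_one (G := G) (p := 2) (by rw [h.card]; norm_num)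
  rw [ncard_pow_eq_one] at hd
  have hv := h.val 2 (h.pos (by norm_num))
  simp only [vals, List.mem_cons, List.not_mem_nil, or_false] at hv
  omega

theorem Hyp.cnt_three (h : Hyp G) : Nat.card {g : G // orderOf g = 3} = 4400 := by
  have : Fact (Nat.Prime 3) := ⟨Nat.prime_three⟩
  have hd := dvd_ncard_pow_eq_one (G := G) (p := 3) (by rw [h.card]; norm_num)
  rw [ncard_pow_eq_one] at hd
  have hv := h.val 3 (h.pos (by norm_num))
  simp only [vals, List.mem_cons, List.not_mem_nil, or_false] at hv
  omega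

theorem Hyp.n11 (h : Hyp G) : Nat.card (Sylow 11 G) = 1728 := by
  have : Fact (Nat.Prime 11) := ⟨by norm_num⟩
  obtain ⟨P⟩ : Nonempty (Sylow 11 G) := inferInstance
  have hP := CfsgLib.Transfer.card_sylow_eq_prime P (by rw [h.card]; norm_num)
    (by rw [h.card]; norm_num)
  have hv := h.val 11 (h.pos (by norm_num))
  rw [CfsgLib.Transfer.card_orderOf_eq_prime P hP] at hv
  have hd : Nat.card (Sylow 11 G) ∣ 8640 := by
    have h1 := P.card_dvd_index
    have h2 := (P : Subgroup G).index_mul_card
    rw [hP, h.card] at h2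
    rwa [show (P : Subgroup G).index = 8640 by omega] at h1
  simp only [vals, List.mem_cons, List.not_mem_nil, or_false] at hv
  have hcases : Nat.card (Sylow 11 G) = 1728 ∨ Nat.card (Sylow 11 G) = 440 ∨
      Nat.card (Sylow 11 G) = 594 ∨ Nat.card (Sylow 11 G) = 2376 := by omega
  rcases hcases with e | e | e | e
  · exact e
  all_goals rw [e] at hd; norm_num at hd

theorem Hyp.n5 (h : Hyp G) : Nat.card (Sylow 5 G) = 2376 := by
  have : Fact (Nat.Prime 5) := ⟨by norm_num⟩
  obtain ⟨P⟩ : Nonempty (Sylow 5 G) := inferInstance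
  have hP := CfsgLib.Transfer.card_sylow_eq_prime P (by rw [h.card]; norm_num)
    (by rw [h.card]; norm_num)
  have hv := h.val 5 (h.pos (by norm_num))
  rw [CfsgLib.Transfer.card_orderOf_eq_prime P hP] at hv
  have hd : Nat.card (Sylow 5 G) ∣ 19008 := by
    have h1 := P.card_dvd_index
    have h2 := (P : Subgroup G).index_mul_card
    rw [hP, h.card] at h2
    rwa [show (P : Subgroup G).index = 19008 by omega] at h1
  simp only [vals, List.mem_cons, List.not_mem_nil, or_false] at hv
  have hcases : Nat.card (Sylow 5 G) = 2376 ∨ Nat.card (Sylow 5 G) = 1100 ∨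
      Nat.card (Sylow 5 G) = 1485 ∨ Nat.card (Sylow 5 G) = 4320 ∨ Nat.card (Sylow 5 G) = 5940 := by
    omega
  rcases hcases with e | e | e | e | e
  · exact e
  all_goals rw [e] at hd; norm_num at hd

/-- The Sylow subgroup generated by an element of prime order. -/
theorem exists_sylow_zpowers (h : Hyp G) {p : ℕ} [Fact p.Prime] (hp : p ∣ 95040)
    (hp2 : ¬ p ^ 2 ∣ 95040) {x : G} (hx : orderOf x = p) :
    ∃ P : Sylow p G, (P : Subgroup G) = zpowers x := by
  obtain ⟨P, hP⟩ := (IsPGroup.of_card (G := zpowers x) (p := p) (n := 1)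
    (by rw [Nat.card_zpowers, hx, pow_one])).exists_le_sylow
  refine ⟨P, (eq_of_le_of_card_ge hP ?_).symm⟩
  rw [CfsgLib.Transfer.card_sylow_eq_prime P (h.card ▸ hp) (h.card ▸ hp2), Nat.card_zpowers, hx]

theorem card_normalizer_zpowers (h : Hyp G) {p k : ℕ} [Fact p.Prime] (hp : p ∣ 95040)
    (hp2 : ¬ p ^ 2 ∣ 95040) (hk : Nat.card (Sylow p G) = k) {x : G} (hx : orderOf x = p) :
    k * Nat.card (normalizer (zpowers x : Set G)) = 95040 := by
  obtain ⟨P, hP⟩ := exists_sylow_zpowers h hp hp2 hx
  have h1 := (normalizer ((P : Subgroup G) : Set G)).index_mul_card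
  rw [← show Nat.card (Sylow p G) = (normalizer ((P : Subgroup G) : Set G)).index from
    P.card_eq_index_normalizer, hk, h.card, hP] at h1
  exact h1

/-- The centraliser of an element of prime order lies in the normaliser of its subgroup. -/
theorem centralizer_le_normalizer_zpowers (x : G) :
    centralizer ({x} : Set G) ≤ normalizer (zpowers x : Set G) := by
  intro c hc
  refine mem_normalizer_iff.2 fun y => ?_
  show y ∈ zpowers x ↔ c * y * c⁻¹ ∈ zpowers x
  have hcx : c * x * c⁻¹ = x := mul_inv_eq_iff_eq_mul.2 (mem_centralizer_singleton_iff.1 hc)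
  simp only [mem_zpowers_iff]
  constructor
  · rintro ⟨k, rfl⟩
    exact ⟨k, by rw [← conj_zpow, hcx]⟩
  · rintro ⟨k, hk⟩
    refine ⟨k, ?_⟩
    have e : c * x ^ k * c⁻¹ = c * y * c⁻¹ := by rw [← conj_zpow, hcx, hk]
    simpa using e

theorem cent_eleven (h : Hyp G) {x : G} (hx : orderOf x = 11) :
    Nat.card (centralizer ({x} : Set G)) = 11 := by
  have : Fact (Nat.Prime 11) := ⟨by norm_num⟩
  have hN := card_normalizer_zpowers h (by norm_num) (by norm_num) h.n11 hx
  have hd := card_dvd_of_le (centralizer_le_normalizer_zpowers x)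
  rw [show Nat.card (normalizer (zpowers x : Set G)) = 55 by omega] at hd
  have hxd : 11 ∣ Nat.card (centralizer ({x} : Set G)) := by
    rw [← hx]
    exact Subgroup.orderOf_dvd_natCard _ (mem_centralizer_singleton_iff.2 rfl)
  have hcases : ∀ m ∈ Nat.divisors 55, 11 ∣ m → m = 11 ∨ m = 55 := by decide +kernel
  refine (hcases _ (Nat.mem_divisors.2 ⟨hd, by norm_num⟩) hxd).resolve_right fun h55 => ?_
  have h5 : Fact (Nat.Prime 5) := ⟨by norm_num⟩
  obtain ⟨⟨y, hyx⟩, hy⟩ := exists_prime_orderOf_dvd_card' (G := centralizer ({x} : Set G)) 5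
    (by rw [h55]; norm_num)
  rw [Subgroup.orderOf_mk] at hy
  have hN5 := card_normalizer_zpowers h (by norm_num) (by norm_num) h.n5 hy
  have hxC : x ∈ centralizer ({y} : Set G) :=
    mem_centralizer_singleton_iff.2 (mem_centralizer_singleton_iff.1 hyx).symm
  have := (Subgroup.orderOf_dvd_natCard _ hxC).trans
    (card_dvd_of_le (centralizer_le_normalizer_zpowers y))
  rw [hx, show Nat.card (normalizer (zpowers y : Set G)) = 40 by omega] at this
  norm_num at this

theorem cnt_two (h : Hyp G) : Nat.card {g : G // orderOf g = 2} = 891 := by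
  refine h.cnt_two.resolve_right fun h1 => ?_
  have : Fact (Nat.Prime 11) := ⟨by norm_num⟩
  obtain ⟨⟨hu⟩, ⟨z, hz⟩⟩ := Nat.card_eq_one_iff_unique.1 h1
  obtain ⟨x, hx⟩ := exists_prime_orderOf_dvd_card' (G := G) 11 (by rw [h.card]; norm_num)
  have hzc : x * z * x⁻¹ = z := congrArg Subtype.val
    (hu ⟨x * z * x⁻¹, by rw [CfsgLib.Invol.orderOf_conj_eq, hz]⟩ ⟨z, hz⟩)
  have hmem : z ∈ centralizer ({x} : Set G) :=
    mem_centralizer_singleton_iff.2 (mul_inv_eq_iff_eq_mul.1 hzc).symm
  have := Subgroup.orderOf_dvd_natCard _ hmem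
  rw [hz, cent_eleven h hx] at this
  norm_num at this

theorem eleven_not_dvd (h : Hyp G) {y : G} (hy : orderOf y ≠ 11) (hy1 : y ≠ 1) :
    ¬ 11 ∣ Nat.card (centralizer ({y} : Set G)) := by
  intro hd
  have : Fact (Nat.Prime 11) := ⟨by norm_num⟩
  obtain ⟨⟨x, hxy⟩, hx⟩ := exists_prime_orderOf_dvd_card' (G := centralizer ({y} : Set G)) 11 hd
  rw [Subgroup.orderOf_mk] at hx
  have hmem : y ∈ centralizer ({x} : Set G) :=
    mem_centralizer_singleton_iff.2 (mem_centralizer_singleton_iff.1 hxy).symm
  have := Subgroup.orderOf_dvd_natCard _ hmem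
  rw [cent_eleven h hx, Nat.dvd_prime (by norm_num)] at this
  rcases this with e | e
  · exact hy1 (orderOf_eq_one_iff.1 e)
  · exact hy e

theorem simple (h : Hyp G) : IsSimpleGroup G := by
  classical
  have h11p : Fact (Nat.Prime 11) := ⟨by norm_num⟩
  have hnt : Nontrivial G := Finite.one_lt_card_iff_nontrivial.1 (by rw [h.card]; norm_num)
  obtain ⟨x, hx⟩ := exists_prime_orderOf_dvd_card' (G := G) 11 (by rw [h.card]; norm_num)
  set A := zpowers x
  have hA : Nat.card A = 11 := by rw [Nat.card_zpowers, hx]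
  have hsmall : ∀ N : Subgroup G, N.Normal → ¬ 11 ∣ Nat.card N → N = ⊥ := by
    intro N _ h11
    by_contra hN
    have hne : Nat.card N ≠ 1 := fun e => hN (card_eq_one.1 e)
    have : Fact (Nat.card N).minFac.Prime := ⟨Nat.minFac_prime hne⟩
    obtain ⟨P, hP⟩ := CfsgLib.Coprime.exists_invariant_sylow (A := A) (G := N)
      (by rw [normalizer_eq_top]; exact le_top)
      (by rw [hA]; exact (Nat.Prime.coprime_iff_not_dvd h11p.out).2 h11)
      (Or.inl (inferInstance : Group.IsSolvable A)) (Nat.card N).minFac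
    set R := (P : Subgroup N).map N.subtype
    have hR : Nat.card R = Nat.card (P : Subgroup N) := card_map_of_injective N.subtype_injective
    have hmod := ncard_modEq_fixed (p := 11)
      (IsPGroup.of_card (G := A) (p := 11) (n := 1) (by rw [hA, pow_one]))
      (R : Set G) (fun k hk t ht => (mem_normalizer_iff.1 (hP hk) t).1 ht)
    have hfix : {t | t ∈ (R : Set G) ∧ ∀ k ∈ A, k * t = t * k} = {1} := by
      ext t
      refine ⟨fun ht => ?_, fun ht => by rw [Set.mem_singleton_iff.1 ht]; exact ⟨R.one_mem, by simp⟩⟩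
      have hmem : t ∈ centralizer ({x} : Set G) :=
        mem_centralizer_singleton_iff.2 (ht.2 x (mem_zpowers x)).symm
      have h2 := Subgroup.orderOf_dvd_natCard _ hmem
      rw [cent_eleven h hx] at h2
      rcases (Nat.dvd_prime h11p.out).1 h2 with h3 | h3
      · exact orderOf_eq_one_iff.1 h3
      · have h4 := (Subgroup.orderOf_dvd_natCard _ ht.1).trans
          (hR ▸ (P : Subgroup N).card_subgroup_dvd_card)
        exact (h11 (h3 ▸ h4)).elim
    rw [hfix, Set.ncard_singleton, ← Nat.card_coe_set_eq] at hmod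
    change Nat.card R ≡ 1 [MOD 11] at hmod
    obtain ⟨k, hk⟩ := IsPGroup.iff_card.1 P.2
    have hd : Nat.card R ∣ 95040 :=
      (hR ▸ (P : Subgroup N).card_subgroup_dvd_card).trans (h.card ▸ N.card_subgroup_dvd_card)
    have hk0 : k ≠ 0 := by
      rintro rfl
      have := P.dvd_card_of_dvd_card (Nat.minFac_dvd _)
      rw [hk, pow_zero] at this
      exact (Fact.out : (Nat.card N).minFac.Prime).one_lt.ne' (Nat.dvd_one.1 this)
    rw [hR, hk] at hd hmod
    have hrd : (Nat.card N).minFac ∣ 95040 := (dvd_pow_self _ hk0).trans hd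
    have hall : ∀ r ∈ Nat.divisors 95040, r.Prime → r ≠ 11 →
        ∀ j < 17, j ≠ 0 → r ^ j ∣ 95040 → r ^ j % 11 ≠ 1 := by
      intro r hr hrp
      have hr4 : r = 2 ∨ r = 3 ∨ r = 5 ∨ r = 11 := by
        have h1 : r ∣ 2 ^ 6 * 3 ^ 3 * 5 * 11 := by
          norm_num; exact (Nat.mem_divisors.1 hr).1
        rcases (Nat.Prime.dvd_mul hrp).1 h1 with h2 | h2
        · rcases (Nat.Prime.dvd_mul hrp).1 h2 with h3 | h3
          · rcases (Nat.Prime.dvd_mul hrp).1 h3 with h4 | h4
            · exact Or.inl ((Nat.prime_dvd_prime_iff_eq hrp Nat.prime_two).1 (hrp.dvd_of_dvd_pow h4))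
            · exact Or.inr (Or.inl
                ((Nat.prime_dvd_prime_iff_eq hrp Nat.prime_three).1 (hrp.dvd_of_dvd_pow h4)))
          · exact Or.inr (Or.inr (Or.inl ((Nat.prime_dvd_prime_iff_eq hrp (by norm_num)).1 h3)))
        · exact Or.inr (Or.inr (Or.inr ((Nat.prime_dvd_prime_iff_eq hrp (by norm_num)).1 h2)))
      rcases hr4 with rfl | rfl | rfl | rfl <;> intro h11' <;>
        first
          | exact absurd rfl h11'
          | decide +kernel
    have hlt : k < 17 := (Nat.pow_lt_pow_iff_right (Nat.one_lt_two)).1 (calc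
      2 ^ k ≤ (Nat.card N).minFac ^ k := Nat.pow_le_pow_left (Nat.minFac_prime hne).two_le k
      _ ≤ 95040 := Nat.le_of_dvd (by norm_num) hd
      _ < 2 ^ 17 := by norm_num)
    exact hall _ (Nat.mem_divisors.2 ⟨hrd, by norm_num⟩) Fact.out
      (fun e => h11 (e ▸ Nat.minFac_dvd _)) k hlt hk0 hd hmod
  refine ⟨fun N hN => ?_⟩
  by_cases h11 : 11 ∣ Nat.card N
  swap
  · exact Or.inl (hsmall N hN h11)
  have hP : ∀ P : Sylow 11 G, Nat.card (P : Subgroup G) = 11 := fun P =>
    CfsgLib.Transfer.card_sylow_eq_prime P (by rw [h.card]; norm_num) (by rw [h.card]; norm_num)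
  have hmem : ∀ g : G, orderOf g = 11 → g ∈ N := by
    intro g hg
    obtain ⟨⟨y, hyN⟩, hy⟩ := exists_prime_orderOf_dvd_card' (G := N) 11 h11
    rw [Subgroup.orderOf_mk] at hy
    obtain ⟨P, hgP⟩ := exists_sylow_zpowers h (by norm_num) (by norm_num) hg
    obtain ⟨Q, hyQ⟩ := exists_sylow_zpowers h (by norm_num) (by norm_num) hy
    obtain ⟨c, rfl⟩ := MulAction.exists_smul_eq G Q P
    have h1 : g ∈ ((c • Q : Sylow 11 G) : Subgroup G) := by rw [hgP]; exact mem_zpowers g
    obtain ⟨q, hq, rfl⟩ := h1
    exact hN.conj_mem q ((show (Q : Subgroup G) ≤ N from hyQ ▸ zpowers_le.2 hyN) hq) c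
  have hcnt : Nat.card {g : N // orderOf g = 11} = Nat.card {g : G // orderOf g = 11} := by
    refine Nat.card_congr
      { toFun := fun g => ⟨(g.1 : G), by rw [Subgroup.orderOf_coe]; exact g.2⟩
        invFun := fun g => ⟨⟨g.1, hmem g.1 g.2⟩, by rw [Subgroup.orderOf_mk]; exact g.2⟩
        left_inv := fun g => rfl
        right_inv := fun g => rfl }
  obtain ⟨P⟩ : Nonempty (Sylow 11 N) := inferInstance
  obtain ⟨P₀⟩ : Nonempty (Sylow 11 G) := inferInstance
  have hPN : Nat.card (P : Subgroup N) = 11 :=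
    CfsgLib.Transfer.card_sylow_eq_prime P h11 fun h2 => by
      have := h2.trans N.card_subgroup_dvd_card
      rw [h.card] at this; norm_num at this
  rw [CfsgLib.Transfer.card_orderOf_eq_prime P hPN,
    CfsgLib.Transfer.card_orderOf_eq_prime P₀ (hP P₀), h.n11] at hcnt
  have hn' : Nat.card (Sylow 11 N) = 1728 := by omega
  have hidx : 1728 * Nat.card (normalizer ((P : Subgroup N) : Set N)) = Nat.card N := by
    rw [← hn', P.card_eq_index_normalizer]
    exact Subgroup.index_mul_card _
  have hk : Nat.card (normalizer ((P : Subgroup N) : Set N)) ∣ 55 := by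
    have h' := N.card_subgroup_dvd_card
    rw [h.card, ← hidx] at h'
    exact Nat.dvd_of_mul_dvd_mul_left (by norm_num : 0 < 1728) (h' : _ ∣ 1728 * 55)
  have hk' : 11 ∣ Nat.card (normalizer ((P : Subgroup N) : Set N)) := by
    have := Subgroup.card_dvd_of_le (le_normalizer (H := (P : Subgroup N)))
    rwa [hPN] at this
  have hcases : ∀ m ∈ Nat.divisors 55, 11 ∣ m → m = 11 ∨ m = 55 := by decide +kernel
  rcases hcases _ (Nat.mem_divisors.2 ⟨hk, by norm_num⟩) hk' with he | he
  swap
  · exact Or.inr (eq_top_of_card_eq _ (by rw [← hidx, he, h.card]))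
  exfalso
  have hcyc : IsCyclic (P : Subgroup N) := isCyclic_of_prime_card hPN
  have hle : normalizer ((P : Subgroup N) : Set N) ≤ centralizer ((P : Subgroup N) : Set N) := by
    rw [show normalizer ((P : Subgroup N) : Set N) = (P : Subgroup N) from
      (eq_of_le_of_card_ge le_normalizer (by rw [hPN, he])).symm]
    exact fun a ha b hb =>
      congrArg Subtype.val (IsCyclic.commGroup.mul_comm (⟨b, hb⟩ : (P : Subgroup N)) ⟨a, ha⟩)
  have hcompl := MonoidHom.ker_transferSylow_isComplement' P hle
  set K := (MonoidHom.transferSylow P hle).ker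
  have hK : Nat.card K = 1728 := by
    have h1 := hcompl.card_mul_card
    rw [hPN, ← hidx, he] at h1
    omega
  have hin : ∀ g : N, g ^ 1728 = 1 → g ∈ K := by
    intro g hg
    refine MonoidHom.mem_ker.2 ?_
    have h1 : (MonoidHom.transferSylow P hle g) ^ 1728 = 1 := by rw [← map_pow, hg, map_one]
    have h2 : (MonoidHom.transferSylow P hle g) ^ Nat.card (P : Subgroup N) = 1 := pow_card_eq_one'
    rw [hPN] at h2
    simpa using pow_gcd_eq_one.2 ⟨h1, h2⟩
  have hKG : (K.map N.subtype).Normal := ⟨by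
    rintro _ ⟨g, hg, rfl⟩ c
    refine ⟨⟨c * (g : G) * c⁻¹, hN.conj_mem g g.2 c⟩, hin _ (Subtype.ext ?_), rfl⟩
    have h1 : g ^ 1728 = 1 := by
      rw [← hK]
      exact congrArg Subtype.val (pow_card_eq_one' (x := (⟨g, hg⟩ : K)))
    show (c * (g : G) * c⁻¹) ^ 1728 = 1
    rw [conj_pow, ← SubmonoidClass.coe_pow, h1]
    simp⟩
  have hKc : Nat.card (K.map N.subtype) = 1728 := by
    rw [card_map_of_injective N.subtype_injective, hK]
  have := hsmall _ hKG (by rw [hKc]; norm_num)
  rw [this, card_bot] at hKc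
  omega

theorem nonabelian (h : Hyp G) : ¬ IsMulCommutative G := by
  have := simple h
  exact CfsgLib.Transfer.not_isMulCommutative_of_not_prime (by rw [h.card]; norm_num)

/-- Subgroups of order five are conjugate, with their centralisers. -/
theorem exists_conj_five (h : Hyp G) {x x' : G} (hx : orderOf x = 5) (hx' : orderOf x' = 5) :
    ∃ g : G, ∀ c : G, (c * x = x * c ↔ g * c * g⁻¹ * x' = x' * (g * c * g⁻¹)) := by
  have : Fact (Nat.Prime 5) := ⟨by norm_num⟩
  obtain ⟨P, hP⟩ := exists_sylow_zpowers h (by norm_num) (by norm_num) hx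
  obtain ⟨P', hP'⟩ := exists_sylow_zpowers h (by norm_num) (by norm_num) hx'
  obtain ⟨g, rfl⟩ := MulAction.exists_smul_eq G P P'
  obtain ⟨k, hk⟩ : ∃ k : ℕ, g * x ^ k * g⁻¹ = x' := by
    have h1 : x' ∈ ((g • P : Sylow 5 G) : Subgroup G) := by rw [hP']; exact mem_zpowers x'
    obtain ⟨q, hq, e⟩ := h1
    rw [hP] at hq
    obtain ⟨k, rfl⟩ := mem_zpowers_iff.1 hq
    obtain ⟨m, hm⟩ := mem_powers_iff_mem_zpowers.2
      (mem_zpowers_iff.2 ⟨k, rfl⟩ : x ^ k ∈ zpowers x)
    exact ⟨m, by rw [show x ^ m = x ^ k from hm]; simpa using e⟩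
  have hk5 : ¬ 5 ∣ k := by
    rintro ⟨j, rfl⟩
    rw [pow_mul, ← hx, pow_orderOf_eq_one, one_pow] at hk
    rw [← hk] at hx'
    simp at hx'
  obtain ⟨j, hj⟩ := exists_pow_eq_self_of_coprime (x := x) (n := k)
    (by rw [hx]; exact Nat.Coprime.symm ((Nat.Prime.coprime_iff_not_dvd (by norm_num)).2 hk5))
  refine ⟨g, fun c => ⟨fun hc => ?_, fun hc => ?_⟩⟩
  · rw [← hk]
    calc g * c * g⁻¹ * (g * x ^ k * g⁻¹) = g * (c * x ^ k) * g⁻¹ := by group
      _ = g * (x ^ k * c) * g⁻¹ := by rw [(show Commute c x from hc).pow_right k |>.eq]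
      _ = g * x ^ k * g⁻¹ * (g * c * g⁻¹) := by group
  · have h2 : Commute c (x ^ k) := by
      rw [← hk] at hc
      have h3 : g * (c * x ^ k) * g⁻¹ = g * (x ^ k * c) * g⁻¹ := by
        calc g * (c * x ^ k) * g⁻¹ = g * c * g⁻¹ * (g * x ^ k * g⁻¹) := by group
          _ = g * x ^ k * g⁻¹ * (g * c * g⁻¹) := hc
          _ = g * (x ^ k * c) * g⁻¹ := by group
      exact mul_left_cancel (mul_right_cancel h3)
    rw [← hj]
    exact (h2.pow_right j).eq

theorem card_cent_five_eq (h : Hyp G) {x x' : G} (hx : orderOf x = 5) (hx' : orderOf x' = 5) :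
    Nat.card (centralizer ({x'} : Set G)) = Nat.card (centralizer ({x} : Set G)) := by
  obtain ⟨g, hg⟩ := exists_conj_five h hx hx'
  refine (Nat.card_congr (Equiv.subtypeEquiv (MulAut.conj g).toEquiv fun c => ?_)).symm
  simp only [mem_centralizer_singleton_iff, MulEquiv.toEquiv_eq_coe, EquivLike.coe_coe,
    MulAut.conj_apply]
  exact hg c

theorem le_card_of_fibres {k m : ℕ} (hk : 0 < k)
    (hm : ∀ x : G, orderOf x = 5 →
      m ≤ Nat.card {y : G // orderOf y = 5 * k ∧ y ^ k = x}) :
    Nat.card {g : G // orderOf g = 5} * m ≤ Nat.card {y : G // orderOf y = 5 * k} := by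
  classical
  have := Fintype.ofFinite G
  rw [Nat.card_eq_fintype_card, Nat.card_eq_fintype_card, Fintype.card_subtype, Fintype.card_subtype,
    Finset.card_eq_sum_card_fiberwise (f := fun y => y ^ k)
      (s := Finset.univ.filter fun y => orderOf y = 5 * k)
      (t := Finset.univ.filter fun g => orderOf g = 5) (fun y hy => by
        simp only [Finset.coe_filter, Finset.mem_univ, true_and] at hy ⊢
        show orderOf (y ^ k) = 5
        rw [orderOf_pow' _ hk.ne', show orderOf y = 5 * k from hy, Nat.gcd_mul_left_left,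
          Nat.mul_div_cancel _ hk])]
  rw [← smul_eq_mul, ← Finset.sum_const]
  refine Finset.sum_le_sum fun x hx => ?_
  refine (hm x (Finset.mem_filter.1 hx).2).trans (le_of_eq ?_)
  rw [Nat.card_eq_fintype_card, Fintype.card_subtype]
  congr 1
  ext y
  simp

theorem card_eq_of_fibres {k m : ℕ} (hk : 0 < k)
    (hm : ∀ x : G, orderOf x = 5 → Nat.card {y : G // orderOf y = 5 * k ∧ y ^ k = x} = m) :
    Nat.card {y : G // orderOf y = 5 * k} = Nat.card {g : G // orderOf g = 5} * m := by
  classical
  have := Fintype.ofFinite G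
  rw [Nat.card_eq_fintype_card, Nat.card_eq_fintype_card, Fintype.card_subtype, Fintype.card_subtype,
    Finset.card_eq_sum_card_fiberwise (f := fun y => y ^ k)
      (s := Finset.univ.filter fun y => orderOf y = 5 * k)
      (t := Finset.univ.filter fun g => orderOf g = 5) (fun y hy => by
        simp only [Finset.coe_filter, Finset.mem_univ, true_and] at hy ⊢
        show orderOf (y ^ k) = 5
        rw [orderOf_pow' _ hk.ne', show orderOf y = 5 * k from hy, Nat.gcd_mul_left_left,
          Nat.mul_div_cancel _ hk])]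
  refine Finset.sum_const_nat fun x hx => ?_
  rw [← hm x (Finset.mem_filter.1 hx).2, Nat.card_eq_fintype_card, Fintype.card_subtype]
  congr 1
  ext y
  simp

theorem cnt_five (h : Hyp G) : Nat.card {g : G // orderOf g = 5} = 9504 := by
  have : Fact (Nat.Prime 5) := ⟨by norm_num⟩
  obtain ⟨P⟩ : Nonempty (Sylow 5 G) := inferInstance
  rw [CfsgLib.Transfer.card_orderOf_eq_prime P (CfsgLib.Transfer.card_sylow_eq_prime P
    (by rw [h.card]; norm_num) (by rw [h.card]; norm_num)), h.n5]

theorem card_cent_five (h : Hyp G) {x : G} (hx : orderOf x = 5) :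
    Nat.card (centralizer ({x} : Set G)) = 10 := by
  classical
  have h5 : Fact (Nat.Prime 5) := ⟨by norm_num⟩
  have h2 : Fact (Nat.Prime 2) := ⟨Nat.prime_two⟩
  have := simple h
  set C := centralizer ({x} : Set G) with hC
  set N := normalizer (zpowers x : Set G) with hN
  have hN40 : Nat.card N = 40 := by
    have := card_normalizer_zpowers h (by norm_num) (by norm_num) h.n5 hx
    rw [← hN] at this; omega
  have hle : C ≤ N := centralizer_le_normalizer_zpowers x
  have hd : Nat.card C ∣ 40 := hN40 ▸ card_dvd_of_le hle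
  have h5d : 5 ∣ Nat.card C := by
    rw [← hx]; exact Subgroup.orderOf_dvd_natCard _ (mem_centralizer_singleton_iff.2 rfl)
  -- the index is at most four
  have hidx : Nat.card N ≤ Nat.card C * 4 := by
    have hmap : ∀ n : N, ∃ i : Fin 5, (n : G) * x * (n : G)⁻¹ = x ^ (i : ℕ) := by
      intro n
      have h1 : (n : G) * x * (n : G)⁻¹ ∈ zpowers x :=
        (mem_normalizer_iff.1 n.2 x).1 (mem_zpowers x)
      obtain ⟨m, hm⟩ := mem_powers_iff_mem_zpowers.2 h1
      exact ⟨⟨m % 5, Nat.mod_lt _ (by norm_num)⟩, by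
        show _ = x ^ (m % 5)
        rw [← hx, pow_mod_orderOf]; exact hm.symm⟩
    choose i hi using hmap
    have hne : ∀ n : N, i n ≠ 0 := fun n e => by
      have h1 := hi n
      rw [e] at h1
      have : x = 1 := by simpa using h1
      rw [this] at hx
      simp at hx
    have hfib : ∀ j : Fin 5, Nat.card {n : N // i n = j} ≤ Nat.card C := by
      intro j
      by_cases hj : Nonempty {n : N // i n = j}
      · obtain ⟨n₀⟩ := hj
        refine Nat.card_le_card_of_injective (fun n => ⟨((n₀.1 : N) : G)⁻¹ * (n.1 : G), ?_⟩) ?_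
        · rw [hC, mem_centralizer_singleton_iff]
          have e1 := hi n.1
          have e0 := hi n₀.1
          rw [n.2] at e1
          rw [n₀.2, ← e1] at e0
          calc ((n₀.1 : N) : G)⁻¹ * (n.1 : G) * x
              = ((n₀.1 : N) : G)⁻¹ * ((n.1 : G) * x * (n.1 : G)⁻¹) * (n.1 : G) := by group
            _ = ((n₀.1 : N) : G)⁻¹ * (((n₀.1 : N) : G) * x * ((n₀.1 : N) : G)⁻¹) * (n.1 : G) := by
              rw [e0]
            _ = x * (((n₀.1 : N) : G)⁻¹ * (n.1 : G)) := by group
        · intro a b hab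
          have := congrArg Subtype.val hab
          exact Subtype.ext (Subtype.ext (mul_left_cancel this))
      · rw [not_nonempty_iff] at hj
        simp
    have e : Nat.card N = ∑ j : Fin 5, Nat.card {n : N // i n = j} := by
      rw [← Nat.card_sigma]
      exact Nat.card_congr (Equiv.sigmaFiberEquiv i).symm
    have e0 : Nat.card {n : N // i n = (0 : Fin 5)} = 0 := by
      have : IsEmpty {n : N // i n = (0 : Fin 5)} := ⟨fun n => hne n.1 n.2⟩
      simp
    rw [e, Fin.sum_univ_five, e0]
    have := hfib 1; have := hfib 2; have := hfib 3; have := hfib 4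
    omega
  have hcases : ∀ m ∈ Nat.divisors 40, 5 ∣ m → 40 ≤ m * 4 → m = 10 ∨ m = 20 ∨ m = 40 := by
    decide +kernel
  rcases hcases _ (Nat.mem_divisors.2 ⟨hd, by norm_num⟩) h5d (hN40 ▸ hidx) with e | e | e
  · exact e
  swap
  · exfalso
    obtain ⟨P, hP⟩ := exists_sylow_zpowers h (by norm_num) (by norm_num) hx
    refine CfsgLib.Transfer.not_normalizer_le_centralizer (nonabelian h) (p := 5)
      (by rw [h.card]; norm_num) P ?_
    rw [hP]
    rw [show normalizer (zpowers x : Set G) = C from
      (eq_of_le_of_card_ge hle (by rw [hN40]; exact e.ge)).symm]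
    intro c hc y hy
    obtain ⟨k, rfl⟩ := mem_zpowers_iff.1 hy
    exact ((show Commute c x from mem_centralizer_singleton_iff.1 hc).zpow_right k).symm.eq
  exfalso
  -- order twenty
  have hall : ∀ x' : G, orderOf x' = 5 → Nat.card (centralizer ({x'} : Set G)) = 20 :=
    fun x' hx' => (card_cent_five_eq h hx hx').trans e
  by_cases hex : ∃ y : G, orderOf y = 20
  · obtain ⟨y₀, hy₀⟩ := hex
    have hx₀ : orderOf (y₀ ^ 4) = 5 := by rw [orderOf_pow, hy₀]; norm_num
    have hexall : ∀ x' : G, orderOf x' = 5 →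
        ∃ y, orderOf y = 20 ∧ y * x' = x' * y := by
      intro x' hx'
      obtain ⟨g, hg⟩ := exists_conj_five h hx₀ hx'
      exact ⟨g * y₀ * g⁻¹, by rw [CfsgLib.Invol.orderOf_conj_eq, hy₀],
        (hg y₀).1 (pow_mul_comm' y₀ 4).symm⟩
    have hfib : ∀ x' : G, orderOf x' = 5 →
        Nat.card {y : G // orderOf y = 5 * 4 ∧ y ^ 4 = x'} = 2 := by
      intro x' hx'
      obtain ⟨y, hy, hyx⟩ := hexall x' hx'
      set C' := centralizer ({x'} : Set G)
      have hyC : zpowers y = C' := eq_of_le_of_card_ge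
        (zpowers_le.2 (mem_centralizer_singleton_iff.2 hyx))
        (by rw [hall x' hx', Nat.card_zpowers, hy])
      obtain ⟨a, ha⟩ := mem_powers_iff_mem_zpowers.2
        (show x' ∈ zpowers y by rw [hyC]; exact mem_centralizer_singleton_iff.2 rfl)
      replace ha : y ^ a = x' := ha
      have hpow : ∀ i j : ℕ, y ^ i = y ^ j ↔ i % 20 = j % 20 := fun i j => by
        rw [pow_inj_mod, hy]
      have hord : ∀ i : ℕ, orderOf (y ^ i) = 20 / Nat.gcd 20 i := fun i => by rw [orderOf_pow, hy]
      have key : ∀ a < 20, 20 / Nat.gcd 20 a = 5 →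
          ((Finset.range 20).filter fun i => 20 / Nat.gcd 20 i = 20 ∧ (4 * i) % 20 = a).card = 2 := by
        decide +kernel
      have e1 : {z : G | orderOf z = 5 * 4 ∧ z ^ 4 = x'} =
          (fun i => y ^ i) '' ↑((Finset.range 20).filter fun i =>
            20 / Nat.gcd 20 i = 20 ∧ (4 * i) % 20 = a % 20) := by
        ext z
        simp only [Set.mem_image, Finset.coe_filter, Finset.mem_range]
        constructor
        · rintro ⟨hz1, hz2⟩
          have hzC : z ∈ zpowers y := hyC ▸ mem_centralizer_singleton_iff.2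
            (by rw [← hz2, ← pow_succ', ← pow_succ])
          obtain ⟨i, rfl⟩ := mem_powers_iff_mem_zpowers.2 hzC
          refine ⟨i % 20, ⟨Nat.mod_lt _ (by norm_num), ?_, ?_⟩, by rw [hpow]; omega⟩
          · rw [← hord, show y ^ (i % 20) = y ^ i from (hpow _ _).2 (by omega)]
            exact hz1
          · have : y ^ (4 * i) = y ^ a := by rw [mul_comm, pow_mul, ha]; exact hz2
            rw [hpow] at this; omega
        · rintro ⟨i, ⟨-, hi1, hi2⟩, rfl⟩
          exact ⟨by rw [hord, hi1], by rw [← pow_mul, ← ha, hpow]; omega⟩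
      rw [show Nat.card {y : G // orderOf y = 5 * 4 ∧ y ^ 4 = x'} =
        {z : G | orderOf z = 5 * 4 ∧ z ^ 4 = x'}.ncard from Nat.card_coe_set_eq _, e1,
        Set.ncard_image_of_injOn, Set.ncard_coe_finset, key _ (Nat.mod_lt _ (by norm_num))]
      · rw [← hord, show y ^ (a % 20) = y ^ a from (hpow _ _).2 (by omega)]
        show orderOf (y ^ a) = 5
        rw [show y ^ a = x' from ha]; exact hx'
      · intro i hi j hj hij
        simp only [Finset.coe_filter, Finset.mem_range] at hi hj
        have hi' : i < 20 := hi.1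
        have hj' : j < 20 := hj.1
        rw [hpow] at hij; omega
    have hc := card_eq_of_fibres (G := G) (k := 4) (by norm_num) hfib
    rw [cnt_five h] at hc
    have hv := h.val (5 * 4) (by rw [hc]; norm_num)
    rw [hc] at hv
    simp [vals] at hv
  · -- a four-group centralising
    have hfib : ∀ x' : G, orderOf x' = 5 →
        3 ≤ Nat.card {y : G // orderOf y = 5 * 2 ∧ y ^ 2 = x'} := by
      intro x' hx'
      set C' := centralizer ({x'} : Set G)
      obtain ⟨A⟩ : Nonempty (Sylow 2 C') := inferInstance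
      have hA : Nat.card (A : Subgroup C') = 4 := by
        rw [A.card_eq_multiplicity, hall x' hx', show (20 : ℕ) = 2 ^ 2 * 5 by norm_num,
          Nat.factorization_mul (by norm_num) (by norm_num), Finsupp.add_apply,
          Nat.Prime.factorization_pow Nat.prime_two, Finsupp.single_eq_same,
          Nat.factorization_eq_zero_of_not_dvd (show ¬ 2 ∣ 5 by norm_num), add_zero]
        norm_num
      have hinv : ∀ a : (A : Subgroup C'), a ≠ 1 → orderOf ((a : C') : G) = 2 := by
        intro a ha
        have hd4 := orderOf_dvd_natCard a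
        rw [hA, ← Subgroup.orderOf_coe a, ← Subgroup.orderOf_coe (a : C')] at hd4
        have h1 : orderOf ((a : C') : G) ≠ 1 := fun e => ha (Subtype.ext (Subtype.ext
          (orderOf_eq_one_iff.1 e)))
        have h4 : orderOf ((a : C') : G) ≠ 4 := by
          intro e4
          have hc : Commute ((a : C') : G) x' := mem_centralizer_singleton_iff.1 (a : C').2
          exact hex ⟨_, (hc.orderOf_mul_eq_mul_orderOf_of_coprime (by rw [e4, hx']; norm_num)).trans
            (by rw [e4, hx'])⟩
        have hle4 := Nat.le_of_dvd (by norm_num) hd4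
        have h0 : orderOf ((a : C') : G) ≠ 3 := fun e3 => by rw [e3] at hd4; norm_num at hd4
        have hpos := orderOf_pos ((a : C') : G)
        omega
      have hfour : Nat.card {a : (A : Subgroup C') // a ≠ 1} = 3 := by
        have : Fintype (A : Subgroup C') := Fintype.ofFinite _
        rw [Nat.card_eq_fintype_card, Fintype.card_subtype_compl, Fintype.card_subtype_eq,
          ← Nat.card_eq_fintype_card, hA]
      rw [← hfour]
      refine Nat.card_le_card_of_injective (fun a => ⟨x' ^ 3 * ((a.1 : C') : G), ?_, ?_⟩) ?_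
      · have hc : Commute (x' ^ 3) ((a.1 : C') : G) :=
          ((show Commute ((a.1 : C') : G) x' from
            mem_centralizer_singleton_iff.1 (a.1 : C').2).pow_right 3).symm
        have h3 : orderOf (x' ^ 3) = 5 := by rw [orderOf_pow, hx']; norm_num
        rw [hc.orderOf_mul_eq_mul_orderOf_of_coprime (by rw [h3, hinv _ a.2]; norm_num), h3,
          hinv _ a.2]
      · have hc : Commute (x' ^ 3) ((a.1 : C') : G) :=
          ((show Commute ((a.1 : C') : G) x' from
            mem_centralizer_singleton_iff.1 (a.1 : C').2).pow_right 3).symm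
        have ha2 := pow_orderOf_eq_one ((a.1 : C') : G)
        rw [hinv _ a.2] at ha2
        rw [hc.mul_pow, ha2, mul_one, ← pow_mul, show 3 * 2 = 5 + 1 by norm_num, pow_succ, ← hx',
          pow_orderOf_eq_one, one_mul]
      · intro a b hab
        have := congrArg Subtype.val hab
        exact Subtype.ext (Subtype.ext (Subtype.ext (mul_left_cancel this)))
    have hc := le_card_of_fibres (G := G) (k := 2) (by norm_num) hfib
    rw [cnt_five h] at hc
    have hv := h.val (5 * 2) (by omega)
    simp only [vals, List.mem_cons, List.not_mem_nil, or_false] at hv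
    omega

/-- The centraliser of an element of order five contains exactly one involution. -/
theorem exists_invol_five (h : Hyp G) {x : G} (hx : orderOf x = 5) :
    ∃ s : G, orderOf s = 2 ∧ s * x = x * s ∧
      ∀ c : G, c * x = x * c → ∃ i j : ℕ, c = x ^ i * s ^ j := by
  classical
  have h2 : Fact (Nat.Prime 2) := ⟨Nat.prime_two⟩
  set C := centralizer ({x} : Set G)
  obtain ⟨⟨s, hsC⟩, hs⟩ := exists_prime_orderOf_dvd_card' (G := C) 2
    (by rw [card_cent_five h hx]; norm_num)
  rw [Subgroup.orderOf_mk] at hs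
  have hsx : s * x = x * s := mem_centralizer_singleton_iff.1 hsC
  have hcop : orderOf (x * s) = 10 := by
    rw [(show Commute x s from hsx.symm).orderOf_mul_eq_mul_orderOf_of_coprime
      (by rw [hx, hs]; norm_num), hx, hs]
  have hz : zpowers (x * s) = C := eq_of_le_of_card_ge
    (zpowers_le.2 (C.mul_mem (mem_centralizer_singleton_iff.2 rfl) hsC))
    (by rw [card_cent_five h hx, Nat.card_zpowers, hcop])
  refine ⟨s, hs, hsx, fun c hc => ?_⟩
  obtain ⟨m, hm⟩ := mem_powers_iff_mem_zpowers.2
    (show c ∈ zpowers (x * s) by rw [hz]; exact mem_centralizer_singleton_iff.2 hc)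
  exact ⟨m, m, by rw [← (show Commute x s from hsx.symm).mul_pow]; exact hm.symm⟩

/-- An involution centralising an element of order five is the only one. -/
theorem invol_five_unique (h : Hyp G) {x t t' : G} (hx : orderOf x = 5) (ht : orderOf t = 2)
    (htx : t * x = x * t) (ht' : orderOf t' = 2) (htx' : t' * x = x * t') : t = t' := by
  obtain ⟨s, hs, hsx, hall⟩ := exists_invol_five h hx
  have key : ∀ c : G, orderOf c = 2 → c * x = x * c → c = s := by
    intro c hc hcx
    obtain ⟨i, j, rfl⟩ := hall c hcx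
    have hs2 : s ^ 2 = 1 := by
      have := pow_orderOf_eq_one s
      rwa [hs] at this
    have hsq := pow_orderOf_eq_one (x ^ i * s ^ j)
    rw [hc, ((show Commute x s from hsx.symm).pow_pow i j).mul_pow, ← pow_mul, ← pow_mul,
      mul_comm j 2, pow_mul s, hs2, one_pow, mul_one] at hsq
    have h5 : 5 ∣ i * 2 := hx ▸ orderOf_dvd_of_pow_eq_one hsq
    have hi : x ^ i = 1 := by
      rw [← orderOf_dvd_iff_pow_eq_one, hx]; omega
    rw [hi, one_mul] at hc ⊢
    rcases Nat.even_or_odd j with ⟨k, rfl⟩ | ⟨k, rfl⟩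
    · rw [← two_mul, pow_mul, hs2, one_pow, orderOf_one] at hc
      exact absurd hc (by norm_num)
    · rw [pow_succ, pow_mul, hs2, one_pow, one_mul]
  rw [key t ht htx, key t' ht' htx']

/-- Involutions centralising elements of order five are conjugate. -/
theorem isConj_invol_five (h : Hyp G) {x x' t t' : G} (hx : orderOf x = 5) (hx' : orderOf x' = 5)
    (ht : orderOf t = 2) (htx : t * x = x * t) (ht' : orderOf t' = 2) (htx' : t' * x' = x' * t') :
    IsConj t t' := by
  obtain ⟨g, hg⟩ := exists_conj_five h hx hx'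
  refine isConj_iff.2 ⟨g, ?_⟩
  exact invol_five_unique h hx' (by rw [CfsgLib.Invol.orderOf_conj_eq, ht]) ((hg t).1 htx) ht' htx'

/-- The normaliser of a subgroup of order five centralises the involution of its centraliser. -/
theorem normalizer_five_le (h : Hyp G) {x t : G} (hx : orderOf x = 5) (ht : orderOf t = 2)
    (htx : t * x = x * t) :
    normalizer (zpowers x : Set G) ≤ centralizer ({t} : Set G) := by
  intro n hn
  obtain ⟨k, hk⟩ : ∃ k : ℤ, x ^ k = n⁻¹ * x * n := by
    have := (mem_normalizer_iff.1 (Subgroup.inv_mem _ hn) x).1 (mem_zpowers x)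
    rw [inv_inv] at this
    exact mem_zpowers_iff.1 this
  have hc : n * t * n⁻¹ * x = x * (n * t * n⁻¹) := by
    have h1 : t * (n⁻¹ * x * n) = n⁻¹ * x * n * t := by
      rw [← hk]; exact ((show Commute t x from htx).zpow_right k).eq
    calc n * t * n⁻¹ * x = n * (t * (n⁻¹ * x * n)) * n⁻¹ := by group
      _ = n * (n⁻¹ * x * n * t) * n⁻¹ := by rw [h1]
      _ = x * (n * t * n⁻¹) := by group
  have e := invol_five_unique h hx (by rw [CfsgLib.Invol.orderOf_conj_eq, ht]) hc ht htx
  exact mem_centralizer_singleton_iff.2 (mul_inv_eq_iff_eq_mul.1 e)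

end CfsgLib.ClassK.M12Nse
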