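import Cfsg.Agent.Lib.Transfer.SimpleCount
import Mathlib.GroupTheory.SpecificGroups.Alternating.Simple
import Mathlib.Tactic

/-! Facts on the alternating groups of degrees five and six, checked by evaluation. -/

set_option autoImplicit false
set_option maxRecDepth 100000
set_option synthInstance.maxSize 4096
set_option synthInstance.maxHeartbeats 200000
set_option maxHeartbeats 1000000

namespace CfsgLib.ClassK.M12Nse

open Equiv Subgroup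

/-- Alternating group of degree five. -/
abbrev A5 : Type := ↥(alternatingGroup (Fin 5))
/-- Alternating group of degree six. -/
abbrev A6 : Type := ↥(alternatingGroup (Fin 6))

/-- A permutation from its list of images. -/
def mkP {n : ℕ} (f g : Fin n → Fin n) (h : ∀ i, g (f i) = i) (h' : ∀ i, f (g i) = i) :
    Perm (Fin n) := ⟨f, g, h, h'⟩

/-- A five-cycle. -/
def g1 : A5 := ⟨mkP ![1, 2, 3, 4, 0] ![4, 0, 1, 2, 3] (by decide) (by decide), by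
  rw [Equiv.Perm.mem_alternatingGroup]; decide +kernel⟩
/-- A three-cycle. -/
def g2 : A5 := ⟨mkP ![1, 2, 0, 3, 4] ![2, 0, 1, 3, 4] (by decide) (by decide), by
  rw [Equiv.Perm.mem_alternatingGroup]; decide +kernel⟩
/-- `(01)(23)`. -/
def va : A5 := ⟨mkP ![1, 0, 3, 2, 4] ![1, 0, 3, 2, 4] (by decide) (by decide), by
  rw [Equiv.Perm.mem_alternatingGroup]; decide +kernel⟩
/-- `(02)(13)`. -/
def vb : A5 := ⟨mkP ![2, 3, 0, 1, 4] ![2, 3, 0, 1, 4] (by decide) (by decide), by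
  rw [Equiv.Perm.mem_alternatingGroup]; decide +kernel⟩

/-- `(012)`. -/
def a6 : A6 := ⟨mkP ![1, 2, 0, 3, 4, 5] ![2, 0, 1, 3, 4, 5] (by decide) (by decide), by
  rw [Equiv.Perm.mem_alternatingGroup]; decide +kernel⟩
/-- `(345)`. -/
def b6 : A6 := ⟨mkP ![0, 1, 2, 4, 5, 3] ![0, 1, 2, 5, 3, 4] (by decide) (by decide), by
  rw [Equiv.Perm.mem_alternatingGroup]; decide +kernel⟩
/-- `(12345)`. -/
def c6 : A6 := ⟨mkP ![0, 2, 3, 4, 5, 1] ![0, 5, 1, 2, 3, 4] (by decide) (by decide), by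
  rw [Equiv.Perm.mem_alternatingGroup]; decide +kernel⟩
/-- `(01)(45)`. -/
def ua : A6 := ⟨mkP ![1, 0, 2, 3, 5, 4] ![1, 0, 2, 3, 5, 4] (by decide) (by decide), by
  rw [Equiv.Perm.mem_alternatingGroup]; decide +kernel⟩
/-- `(02)(13)`. -/
def ub : A6 := ⟨mkP ![2, 3, 0, 1, 4, 5] ![2, 3, 0, 1, 4, 5] (by decide) (by decide), by
  rw [Equiv.Perm.mem_alternatingGroup]; decide +kernel⟩

theorem card_A5 : Nat.card A5 = 60 := by
  rw [Nat.card_eq_fintype_card]; decide +kernel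

theorem card_A6 : Nat.card A6 = 360 := by
  rw [Nat.card_eq_fintype_card]; decide +kernel

theorem simple_A5 : IsSimpleGroup A5 := alternatingGroup.isSimpleGroup_five

theorem simple_A6 : IsSimpleGroup A6 := alternatingGroup.isSimpleGroup (by simp)

theorem va_facts : va * va = 1 ∧ va ≠ 1 ∧ vb * vb = 1 ∧ vb ≠ 1 ∧ va ≠ vb ∧
    (va * vb) * (va * vb) = 1 ∧ va * vb ≠ 1 ∧
    ∀ i : Fin 2, (va * vb) ^ (i : ℕ) ≠ va := by decide +kernel

theorem ua_facts : ua * ua = 1 ∧ ua ≠ 1 ∧ ub * ub = 1 ∧ ub ≠ 1 ∧ ua ≠ ub ∧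
    (ua * ub) ^ 4 = 1 ∧ (ua * ub) ^ 2 ≠ 1 ∧
    ∀ i : Fin 4, (ua * ub) ^ (i : ℕ) ≠ ua := by decide +kernel

theorem invol5_conj : ∀ y : A5, y * y = 1 → y ≠ 1 → ∃ g : A5, g * va * g⁻¹ = y := by
  decide +kernel

theorem invol6_conj : ∀ y : A6, y * y = 1 → y ≠ 1 → ∃ g : A6, g * ua * g⁻¹ = y := by
  decide +kernel

theorem invol5_count : (Finset.univ.filter fun y : A5 => y * y = 1 ∧ y ≠ 1).card = 15 := by
  decide +kernel

theorem invol6_count : (Finset.univ.filter fun y : A6 => y * y = 1 ∧ y ≠ 1).card = 45 := by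
  decide +kernel

theorem three5_count : (Finset.univ.filter fun y : A5 => y ^ 3 = 1 ∧ y ≠ 1).card = 20 := by
  decide +kernel

theorem pairs5_count : (Finset.univ.filter fun p : A5 × A5 =>
    p.1 * p.1 = 1 ∧ p.1 ≠ 1 ∧ p.2 * p.2 = 1 ∧ p.2 ≠ 1 ∧ (p.1 * p.2) ^ 15 = 1).card = 195 := by
  decide +kernel

theorem inverted6 : ∃ x w : A6, x ^ 5 = 1 ∧ x ≠ 1 ∧ w * w = 1 ∧ w ≠ 1 ∧ w * x * w⁻¹ = x⁻¹ := by
  decide +kernel

theorem five5 : g1 ^ 5 = 1 ∧ g1 ≠ 1 := by decide +kernel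

theorem gen_rels : g1 ^ 5 = 1 ∧ g1 ≠ 1 ∧ g2 ^ 3 = 1 ∧ g2 ≠ 1 ∧ (g1 * g2) ^ 5 = 1 ∧
    g1 * g2 ≠ 1 ∧ (g1 * g2⁻¹) ^ 3 = 1 ∧ g1 * g2⁻¹ ≠ 1 := by decide +kernel

theorem rels_conj : ∀ p q : A5, p ^ 5 = 1 → p ≠ 1 → q ^ 3 = 1 → q ≠ 1 → (p * q) ^ 5 = 1 →
    p * q ≠ 1 → (p * q⁻¹) ^ 3 = 1 → p * q⁻¹ ≠ 1 →
    ∃ σ : Perm (Fin 5), σ * (g1 : Perm (Fin 5)) * σ⁻¹ = p ∧ σ * (g2 : Perm (Fin 5)) * σ⁻¹ = q := by
  decide +kernel

theorem odd_invol_three : ∀ τ : Perm (Fin 5), τ * τ = 1 → Perm.sign τ = -1 →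
    (∃ x : A5, x ^ 3 = 1 ∧ x ≠ 1 ∧ τ * (x : Perm (Fin 5)) = (x : Perm (Fin 5)) * τ) ∧
    ∀ x : A5, x ^ 3 = 1 → x ≠ 1 → τ * (x : Perm (Fin 5)) = (x : Perm (Fin 5)) * τ →
      ∃ w : A5, w * x * w⁻¹ = x⁻¹ ∧ τ * (w : Perm (Fin 5)) = (w : Perm (Fin 5)) * τ := by
  decide +kernel

theorem cent_V : ∀ σ : Perm (Fin 5), σ * (va : Perm (Fin 5)) = (va : Perm (Fin 5)) * σ →
    σ * (vb : Perm (Fin 5)) = (vb : Perm (Fin 5)) * σ → Perm.sign σ = 1 := by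
  decide +kernel

theorem odd_on_V : ∀ σ : Perm (Fin 5), Perm.sign σ = -1 →
    (σ * (va : Perm (Fin 5)) * σ⁻¹ ∈
      [(va : Perm (Fin 5)), (vb : Perm (Fin 5)), (va * vb : A5).1]) →
    (σ * (vb : Perm (Fin 5)) * σ⁻¹ ∈
      [(va : Perm (Fin 5)), (vb : Perm (Fin 5)), (va * vb : A5).1]) →
    ([(va : Perm (Fin 5)), (vb : Perm (Fin 5)), (va * vb : A5).1].filter
      fun v => σ * v = v * σ).length = 1 := by
  decide +kernel

theorem abc_facts : a6 ^ 3 = 1 ∧ a6 ≠ 1 ∧ b6 ^ 3 = 1 ∧ b6 ≠ 1 ∧ a6 * b6 = b6 * a6 ∧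
    c6 ^ 5 = 1 ∧ c6 ≠ 1 ∧ (a6 * c6) ^ 4 = 1 ∧ (a6 * c6) ^ 2 ≠ 1 ∧ (b6 * c6) ^ 5 = 1 ∧
    b6 * c6 ≠ 1 ∧ (a6 * b6 * c6) ^ 4 = 1 ∧ (a6 * b6 * c6) ^ 2 ≠ 1 ∧
    (a6 * b6⁻¹ * c6) ^ 2 = 1 ∧ a6 * b6⁻¹ * c6 ≠ 1 ∧
    (∀ i j : Fin 3, a6 ^ (i : ℕ) = b6 ^ (j : ℕ) → i = 0) ∧
    (∀ i : Fin 5, a6 * c6 * a6⁻¹ ≠ c6 ^ (i : ℕ)) := by decide +kernel

theorem rels6 : ∀ y : A6, y ^ 5 = 1 → y ≠ 1 → (a6 * y) ^ 4 = 1 → (a6 * y) ^ 2 ≠ 1 →
    (b6 * y) ^ 5 = 1 → b6 * y ≠ 1 → (a6 * b6 * y) ^ 4 = 1 → (a6 * b6 * y) ^ 2 ≠ 1 →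
    (a6 * b6⁻¹ * y) ^ 2 = 1 → a6 * b6⁻¹ * y ≠ 1 →
    ∃ i j : Fin 3, y = a6 ^ (i : ℕ) * b6 ^ (j : ℕ) * c6 * (a6 ^ (i : ℕ) * b6 ^ (j : ℕ))⁻¹ := by
  decide +kernel

theorem cent_square6 : ∀ i j : Fin 3,
    (a6 ^ (i : ℕ) * b6 ^ (j : ℕ)) ^ 2 * c6 = c6 * (a6 ^ (i : ℕ) * b6 ^ (j : ℕ)) ^ 2 →
    i = 0 ∧ j = 0 := by decide +kernel

/-- A proper subgroup of a simple group is not too large. -/
theorem index_ge {H : Type*} [Group H] [Finite H] [IsSimpleGroup H] {n : ℕ}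
    (hn : Nat.card H = n) (hp : ¬ n.Prime) {K : Subgroup H} (hK : K ≠ ⊤) :
    2 * n ∣ K.index.factorial := by
  rw [← hn]
  exact CfsgLib.Transfer.two_mul_card_dvd_factorial
    (CfsgLib.Transfer.not_isMulCommutative_of_not_prime (hn ▸ hp)) hK

theorem closure_A5 : closure ({g1, g2} : Set A5) = ⊤ := by
  have := simple_A5
  by_contra hne
  set H := closure ({g1, g2} : Set A5)
  have h := index_ge card_A5 (by norm_num) hne
  have h5 : orderOf g1 = 5 := orderOf_eq_prime (hp := ⟨by norm_num⟩) gen_rels.1 gen_rels.2.1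
  have h3 : orderOf g2 = 3 :=
    orderOf_eq_prime (hp := ⟨Nat.prime_three⟩) gen_rels.2.2.1 gen_rels.2.2.2.1
  have hd5 : 5 ∣ Nat.card H := dvd_trans (dvd_of_eq h5.symm)
    (H.orderOf_dvd_natCard (subset_closure (by simp) : g1 ∈ H))
  have hd3 : 3 ∣ Nat.card H := dvd_trans (dvd_of_eq h3.symm)
    (H.orderOf_dvd_natCard (subset_closure (by simp) : g2 ∈ H))
  have h15 : 15 ∣ Nat.card H := Nat.Coprime.mul_dvd_of_dvd_of_dvd (by norm_num) hd3 hd5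
  have hm := H.index_mul_card
  rw [card_A5] at hm
  obtain ⟨k, hk⟩ := h15
  rw [hk] at hm
  have hi : H.index ≤ 4 := by
    rcases Nat.eq_zero_or_pos k with rfl | hk0
    · omega
    · nlinarith
  interval_cases H.index <;> norm_num [Nat.factorial] at h

theorem closure_A6 : closure ({a6, b6, c6} : Set A6) = ⊤ := by
  have := simple_A6
  obtain ⟨ha3, ha1, hb3, hb1, hab, hc5, hc1, -, -, -, -, -, -, -, -, hij, hnc⟩ := abc_facts
  by_contra hne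
  set H := closure ({a6, b6, c6} : Set A6)
  have h := index_ge card_A6 (by norm_num) hne
  have haH : a6 ∈ H := subset_closure (by simp)
  have hbH : b6 ∈ H := subset_closure (by simp)
  have hcH : c6 ∈ H := subset_closure (by simp)
  have hoc : orderOf c6 = 5 := orderOf_eq_prime (hp := ⟨by norm_num⟩) hc5 hc1
  have hd5 : 5 ∣ Nat.card H := dvd_trans (dvd_of_eq hoc.symm) (H.orderOf_dvd_natCard hcH)
  have hoa : orderOf a6 = 3 := orderOf_eq_prime (hp := ⟨Nat.prime_three⟩) ha3 ha1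
  have hob : orderOf b6 = 3 := orderOf_eq_prime (hp := ⟨Nat.prime_three⟩) hb3 hb1
  have h9 : 9 ∣ Nat.card H := by
    have hinj : Function.Injective fun p : Fin 3 × Fin 3 => a6 ^ (p.1 : ℕ) * b6 ^ (p.2 : ℕ) := by
      decide +kernel
    let R : Subgroup A6 :=
      { carrier := Set.range fun p : Fin 3 × Fin 3 => a6 ^ (p.1 : ℕ) * b6 ^ (p.2 : ℕ)
        one_mem' := ⟨(0, 0), by simp⟩
        mul_mem' := by
          rintro _ _ ⟨p, rfl⟩ ⟨q, rfl⟩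
          exact (show ∀ p q : Fin 3 × Fin 3, ∃ r : Fin 3 × Fin 3,
            a6 ^ (r.1 : ℕ) * b6 ^ (r.2 : ℕ) = a6 ^ (p.1 : ℕ) * b6 ^ (p.2 : ℕ) *
              (a6 ^ (q.1 : ℕ) * b6 ^ (q.2 : ℕ)) by decide +kernel) p q
        inv_mem' := by
          rintro _ ⟨p, rfl⟩
          exact (show ∀ p : Fin 3 × Fin 3, ∃ r : Fin 3 × Fin 3,
            a6 ^ (r.1 : ℕ) * b6 ^ (r.2 : ℕ) = (a6 ^ (p.1 : ℕ) * b6 ^ (p.2 : ℕ))⁻¹ by
              decide +kernel) p }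
    have hR : Nat.card R = 9 := by
      show Nat.card (Set.range _) = 9
      rw [Nat.card_range_of_injective hinj]
      simp
    rw [← hR]
    refine card_dvd_of_le fun y hy => ?_
    obtain ⟨p, rfl⟩ := hy
    exact H.mul_mem (H.pow_mem haH _) (H.pow_mem hbH _)
  obtain ⟨k, hk⟩ : 45 ∣ Nat.card H := Nat.Coprime.mul_dvd_of_dvd_of_dvd (by norm_num) h9 hd5
  have hm := H.index_mul_card
  rw [card_A6, hk] at hm
  have h8 : H.index * k = 8 := by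
    have : H.index * k * 45 = 8 * 45 := by rw [mul_assoc, mul_comm k 45]; exact hm
    omega
  have hi : H.index = 8 := by
    have hd : H.index ∣ 8 := ⟨k, h8.symm⟩
    have hle := Nat.le_of_dvd (by norm_num) hd
    revert h hd
    interval_cases H.index <;> norm_num [Nat.factorial]
  -- then the subgroup of order five is normal
  have hH45 : Nat.card H = 45 := by rw [hk]; rw [hi] at h8; omega
  have : Fact (Nat.Prime 5) := ⟨by norm_num⟩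
  have hn : Nat.card (Sylow 5 H) = 1 := by
    have h1 : Nat.card (Sylow 5 H) ≡ 1 [MOD 5] := card_sylow_modEq_one 5 H
    obtain ⟨P⟩ : Nonempty (Sylow 5 H) := inferInstance
    have h2 := P.card_dvd_index
    have h3 : (P : Subgroup H).index ∣ 45 := hH45 ▸ (P : Subgroup H).index_dvd_card
    have h4 := P.not_dvd_index'
    have h5 : Nat.card (Sylow 5 H) ∣ 45 := h2.trans h3
    have hall : ∀ m ∈ Nat.divisors 45, m % 5 = 1 → m = 1 := by decide +kernel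
    exact hall _ (Nat.mem_divisors.2 ⟨h5, by norm_num⟩) h1
  obtain ⟨hs, -⟩ := Nat.card_eq_one_iff_unique.1 hn
  obtain ⟨P, hP⟩ := (IsPGroup.of_card (G := zpowers (⟨c6, hcH⟩ : H)) (p := 5) (n := 1)
    (by rw [Nat.card_zpowers, Subgroup.orderOf_mk, hoc, pow_one])).exists_le_sylow
  have hmem : (⟨a6, haH⟩ : H) * ⟨c6, hcH⟩ * (⟨a6, haH⟩ : H)⁻¹ ∈ (P : Subgroup H) := by
    have e : ((⟨a6, haH⟩ : H) • P) = P := hs.elim _ _
    rw [← e]
    exact ⟨⟨c6, hcH⟩, hP (mem_zpowers _), rfl⟩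
  have hPz : zpowers (⟨c6, hcH⟩ : H) = P := by
    refine eq_of_le_of_card_ge hP ?_
    rw [P.card_eq_multiplicity, hH45, Nat.card_zpowers, Subgroup.orderOf_mk, hoc,
      show (45 : ℕ) = 5 * 9 by norm_num, Nat.factorization_mul (by norm_num) (by norm_num),
      Finsupp.add_apply, Nat.Prime.factorization_self (by norm_num),
      Nat.factorization_eq_zero_of_not_dvd (show ¬ 5 ∣ 9 by norm_num)]
    norm_num
  rw [← hPz] at hmem
  obtain ⟨i, hi'⟩ := mem_powers_iff_mem_zpowers.2 hmem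
  refine hnc ⟨i % 5, Nat.mod_lt _ (by norm_num)⟩ ?_
  show _ = c6 ^ (i % 5)
  rw [← hoc, pow_mod_orderOf]
  exact (congrArg Subtype.val hi').symm

end CfsgLib.ClassK.M12Nse
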