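import Cfsg.Agent.Lib.ClassK.M12Nse.Count
import Cfsg.Agent.Lib.Comp.TwoCycleGen
import Mathlib.GroupTheory.Abelianization.Defs
import Mathlib.Tactic

/-!
Lifting a simple group `M` from a double cover inside the centraliser of an involution `s`: if the
Sylow 2-subgroups of the centraliser are not Sylow in the whole group the cover splits.
-/

set_option autoImplicit false

namespace CfsgLib.ClassK.M12Nse

open Subgroup

universe u v

/-- Data used to split a double cover of `M`. -/
structure CoverData (M : Type v) [Group M] [Finite M] : Type v where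
  a : M
  b : M
  r : ℕ
  ha : a * a = 1
  ha1 : a ≠ 1
  hb : b * b = 1
  hb1 : b ≠ 1
  hr : ∃ e : ℕ, 1 ≤ e ∧ r = 2 ^ e
  hab : (a * b) ^ r = 1
  hhalf : (a * b) ^ (r / 2) ≠ 1
  hinj : Function.Injective fun p : Fin r × Fin 2 => (a * b) ^ (p.1 : ℕ) * a ^ (p.2 : ℕ)
  hodd : ∃ q : ℕ, Odd q ∧ Nat.card M = 2 * r * q
  conj : ∀ y : M, y * y = 1 → y ≠ 1 → ∃ g : M, g * a * g⁻¹ = y

variable {G : Type u} [Group G] [Finite G] {M : Type v} [Group M] [Finite M]

/-- A copy of `M` in the centraliser of `s`, invariant in it. -/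
structure Loc (G : Type u) [Group G] (M : Type v) [Group M] (s : G) : Type (max u v) where
  f : M →* G
  inj : Function.Injective f
  comm : ∀ a, f a * s = s * f a
  not_mem : ∀ a, f a ≠ s
  norm : ∀ y : G, y * s = s * y → ∀ a, ∃ b, y * f a * y⁻¹ = f b
  card : Nat.card (centralizer ({s} : Set G)) = 4 * Nat.card M
  five : ∀ y : G, orderOf y = 5 → y * s = s * y → ∃ a, f a = y

/-- The double cover splits. -/
theorem exists_loc [IsSimpleGroup M] (hM : ¬ IsMulCommutative M) (D : CoverData M) {s : G}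
    (hs : orderOf s = 2) {C : Subgroup G} (hC : C = centralizer ({s} : Set G))
    (hcard : Nat.card C = 4 * Nat.card M)
    (hsyl : ∀ U : Subgroup G, IsPGroup 2 U → U ≤ C → ∃ T : Subgroup G, IsPGroup 2 T ∧ U < T)
    (H : Subgroup G) (hHC : H ≤ C) (hnorm : ∀ y ∈ C, ∀ g ∈ H, y * g * y⁻¹ ∈ H) (hsH : s ∈ H)
    (π : H →* M) (hπ : Function.Surjective π) (hker : ∀ g : H, π g = 1 ↔ (g : G) = 1 ∨ (g : G) = s)
    (hfive : ∀ y : G, orderOf y = 5 → y * s = s * y → y ∈ H) :
    Nonempty (Loc G M s) := by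
  classical
  have hs2 := CfsgLib.Invol.invol_mul_self hs
  have hsC : ∀ {g : G}, g ∈ C ↔ g * s = s * g := by
    intro g; rw [hC]; exact mem_centralizer_singleton_iff
  set sH : H := ⟨s, hsH⟩
  have hπs : π sH = 1 := (hker sH).2 (Or.inr rfl)
  have hkerH : ∀ g : H, π g = 1 → g = 1 ∨ g = sH := fun g hg =>
    ((hker g).1 hg).imp (fun e => Subtype.ext e) fun e => Subtype.ext e
  have hcent : ∀ g : H, g * sH = sH * g := fun g => Subtype.ext (hsC.1 (hHC g.2))
  have hcardH : Nat.card H = 2 * Nat.card M := by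
    have h := π.ker.index_mul_card
    rw [index_ker, MonoidHom.range_eq_top.2 hπ, card_top] at h
    have hk : Nat.card π.ker = 2 := by
      rw [Nat.card_eq_two_iff]
      refine ⟨⟨1, π.ker.one_mem⟩, ⟨sH, hπs⟩, fun e => ?_, Set.eq_univ_of_forall fun g => ?_⟩
      · exact CfsgLib.Invol.invol_ne_one hs (congrArg (fun w : π.ker => ((w : H) : G)) e).symm
      · rcases hkerH g.1 g.2 with e | e
        · exact Or.inl (Subtype.ext e)
        · exact Or.inr (Subtype.ext e)
    rw [hk] at h; omega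
  obtain ⟨e, he, hre⟩ := D.hr
  have hr2 : 2 ∣ D.r := hre ▸ dvd_pow_self 2 (by omega)
  -- some lift of an involution is an involution
  have hlift : ∃ g : H, g * g = 1 ∧ π g ≠ 1 := by
    by_contra hno
    push Not at hno
    set c := (D.a * D.b) ^ (D.r / 2) with hc
    obtain ⟨ga, hga⟩ := hπ D.a
    obtain ⟨gc, hgc⟩ := hπ c
    have hcc : c * c = 1 := by rw [hc, ← pow_add, ← two_mul, Nat.mul_div_cancel' hr2, D.hab]
    have hac : D.a * c = c * D.a := by
      have h1 : D.a * (D.a * D.b) * D.a⁻¹ = (D.a * D.b)⁻¹ := by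
        have i1 : D.a⁻¹ = D.a := inv_eq_of_mul_eq_one_right D.ha
        have i2 : D.b⁻¹ = D.b := inv_eq_of_mul_eq_one_right D.hb
        rw [mul_inv_rev, i1, i2, ← mul_assoc, D.ha, one_mul]
      have h2 : D.a * c * D.a⁻¹ = c := by
        rw [hc, ← conj_pow, h1, inv_pow, ← hc]
        exact inv_eq_of_mul_eq_one_right hcc
      exact mul_inv_eq_iff_eq_mul.1 h2
    have hne : c ≠ D.a := by
      intro heq
      have hlt : D.r / 2 < D.r := Nat.div_lt_self (by rw [hre]; positivity) (by norm_num)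
      have hrp : 0 < D.r := by rw [hre]; positivity
      have := D.hinj (a₁ := (⟨D.r / 2, hlt⟩, 0)) (a₂ := (⟨0, hrp⟩, 1))
        (by simpa [hc] using heq)
      simp at this
    -- neither lift squares to one, so they do not commute
    have hsq : ∀ g : H, π g * π g = 1 → π g ≠ 1 → g * g = sH := by
      intro g h1 h2
      rcases hkerH (g * g) (by rw [map_mul]; exact h1) with e | e
      · exact absurd (hno g e) h2
      · exact e
    have hgaga := hsq ga (by rw [hga]; exact D.ha) (by rw [hga]; exact D.ha1)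
    have hgcgc := hsq gc (by rw [hgc]; exact hcc) (by rw [hgc]; exact D.hhalf)
    have hnc : ga * gc ≠ gc * ga := by
      intro hcomm
      have h1 : (ga * gc) * (ga * gc) = 1 := by
        calc (ga * gc) * (ga * gc) = ga * (gc * ga) * gc := by group
          _ = ga * (ga * gc) * gc := by rw [hcomm]
          _ = (ga * ga) * (gc * gc) := by group
          _ = 1 := by rw [hgaga, hgcgc]; exact Subtype.ext hs2
      have h2 := hno _ h1
      rw [map_mul, hga, hgc] at h2
      exact hne (by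
        calc c = D.a * D.a * c := by rw [D.ha, one_mul]
          _ = D.a * (D.a * c) := by group
          _ = D.a := by rw [h2, mul_one])
    -- the preimage of the four-group
    let V : Subgroup M :=
      { carrier := {1, D.a, c, D.a * c}
        one_mem' := by simp
        mul_mem' := by
          intro u w hu hw
          simp only [Set.mem_insert_iff, Set.mem_singleton_iff] at hu hw ⊢
          have k1 : D.a * (D.a * c) = c := by rw [← mul_assoc, D.ha, one_mul]
          have k2 : c * (D.a * c) = D.a := by rw [← mul_assoc, ← hac, mul_assoc, hcc, mul_one]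
          have k3 : D.a * c * D.a = c := by rw [hac, mul_assoc, D.ha, mul_one]
          have k4 : D.a * c * c = D.a := by rw [mul_assoc, hcc, mul_one]
          have k5 : D.a * c * (D.a * c) = 1 := by rw [← mul_assoc, k3, hcc]
          rcases hu with rfl | rfl | rfl | rfl <;> rcases hw with rfl | rfl | rfl | rfl <;>
            simp [D.ha, hcc, k1, k2, k3, k4, k5, hac.symm]
        inv_mem' := by
          intro u hu
          simp only [Set.mem_insert_iff, Set.mem_singleton_iff] at hu ⊢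
          rcases hu with rfl | rfl | rfl | rfl
          · simp
          · simp [inv_eq_of_mul_eq_one_right D.ha]
          · simp [inv_eq_of_mul_eq_one_right hcc]
          · simp [inv_eq_of_mul_eq_one_right D.ha, inv_eq_of_mul_eq_one_right hcc, hac.symm] }
    set W : Subgroup G := (V.comap π).map H.subtype
    have hW : IsPGroup 2 W := by
      refine IsPGroup.map ?_ _
      intro g
      have hg : π g * π g = 1 := by
        have h' : π g ∈ V := g.2
        change π g ∈ ({1, D.a, c, D.a * c} : Set M) at h'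
        simp only [Set.mem_insert_iff, Set.mem_singleton_iff] at h'
        rcases h' with e | e | e | e <;> rw [e]
        · exact one_mul 1
        · exact D.ha
        · exact hcc
        · calc D.a * c * (D.a * c) = D.a * (c * D.a) * c := by group
            _ = D.a * (D.a * c) * c := by rw [hac]
            _ = (D.a * D.a) * (c * c) := by group
            _ = 1 := by rw [D.ha, hcc, one_mul]
      refine ⟨2, Subtype.ext ?_⟩
      show (g : H) ^ (2 ^ 2) = 1
      rcases hkerH ((g : H) * g) (by rw [map_mul]; exact hg) with e | e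
      · rw [show (g : H) ^ (2 ^ 2) = ((g : H) * g) * ((g : H) * g) by simp [pow_succ, mul_assoc], e,
          one_mul]
      · rw [show (g : H) ^ (2 ^ 2) = ((g : H) * g) * ((g : H) * g) by simp [pow_succ, mul_assoc], e]
        exact Subtype.ext hs2
    have hWC : W.subgroupOf C = W.subgroupOf C := rfl
    obtain ⟨P, hP⟩ := ((IsPGroup.of_equiv hW (subgroupOfEquivOfLe (show W ≤ C by
      rintro _ ⟨g, -, rfl⟩; exact hHC g.2)).symm)).exists_le_sylow
    set U : Subgroup G := (P : Subgroup C).map C.subtype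
    have hUC : U ≤ C := map_subtype_le _
    have hUp : IsPGroup 2 U := P.2.map _
    have hmemU : ∀ g : H, π g ∈ V → (g : G) ∈ U := by
      intro g hg
      exact ⟨⟨(g : G), hHC g.2⟩, hP (show (g : G) ∈ W from ⟨g, hg, rfl⟩), rfl⟩
    have hgaU := hmemU ga (by rw [hga]; show D.a ∈ ({1, D.a, c, D.a * c} : Set M); simp)
    have hgcU := hmemU gc (by rw [hgc]; show c ∈ ({1, D.a, c, D.a * c} : Set M); simp)
    obtain ⟨T, hT, hUT⟩ := hsyl U hUp hUC
    obtain ⟨g, hgn, hgU⟩ : ∃ g, g ∈ normalizer (U : Set G) ⊓ T ∧ g ∉ U := by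
      by_contra hcon
      push Not at hcon
      have hnil : Group.IsNilpotent T := hT.isNilpotent
      have hlt : U.subgroupOf T < ⊤ := by
        rw [lt_top_iff_ne_top, Ne, subgroupOf_eq_top]
        exact hUT.not_ge
      have := Group.normalizerCondition_of_isNilpotent (U.subgroupOf T) hlt
      obtain ⟨t, ht1, ht2⟩ := SetLike.exists_of_lt this
      refine ht2 (hcon (t : G) ⟨?_, t.2⟩)
      refine mem_normalizer_iff.2 fun w => ⟨fun hw => ?_, fun hw => ?_⟩
      · exact (mem_normalizer_iff.1 ht1 ⟨w, hUT.le hw⟩).1 hw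
      · have hwT : w ∈ T := by
          have := T.mul_mem (T.mul_mem (T.inv_mem t.2) (hUT.le hw)) t.2
          simpa [mul_assoc] using this
        exact (mem_normalizer_iff.1 ht1 ⟨w, hwT⟩).2 hw
    -- commutators of `U` lie in `H`
    set K : Subgroup C := H.subgroupOf C
    have hKn : K.Normal := ⟨fun n hn y => hnorm _ y.2 _ hn⟩
    have hidx : K.index = 2 := by
      have h1 := K.index_mul_card
      rw [Nat.card_congr (subgroupOfEquivOfLe hHC).toEquiv, hcard, hcardH] at h1
      have h2 : (K.index * 2) * Nat.card M = 4 * Nat.card M := by rw [← h1]; ring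
      have := Nat.eq_of_mul_eq_mul_right Nat.card_pos h2
      omega
    have hcomm : (⁅U, U⁆ : Subgroup G) ≤ H := by
      rw [commutator_le]
      intro u hu w hw
      have h1 : ∀ y : C, y ^ 2 ∈ K := fun y => hidx ▸ K.pow_index_mem y
      let uC : C := ⟨u, hUC hu⟩
      let wC : C := ⟨w, hUC hw⟩
      have h3 : uC * wC * uC⁻¹ * wC⁻¹ ∈ K := by
        rw [show uC * wC * uC⁻¹ * wC⁻¹ = (uC * wC) ^ 2 * (wC⁻¹ * (uC ^ 2)⁻¹ * wC⁻¹⁻¹) *
          (wC ^ 2)⁻¹ by simp [pow_two, mul_assoc]]
        exact K.mul_mem (K.mul_mem (h1 _) (hKn.conj_mem _ (K.inv_mem (h1 _)) _))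
          (K.inv_mem (h1 _))
      exact h3
    have hne' : (⁅U, U⁆ : Subgroup G) ≠ ⊥ := by
      intro e0
      have := commutator_mem_commutator (H₁ := U) (H₂ := U) hgaU hgcU
      rw [e0, mem_bot, commutatorElement_eq_one_iff_mul_comm] at this
      exact hnc (Subtype.ext this)
    have huniq : ∀ w ∈ (⁅U, U⁆ : Subgroup G), orderOf w = 2 → w = s := by
      intro w hw hw2
      have h1 : (⟨w, hcomm hw⟩ : H) * ⟨w, hcomm hw⟩ = 1 :=
        Subtype.ext (CfsgLib.Invol.invol_mul_self hw2)
      rcases (hker _).1 (hno _ h1) with e | e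
      · exact absurd e (CfsgLib.Invol.invol_ne_one hw2)
      · exact e
    have hU2 : IsPGroup 2 (⁅U, U⁆ : Subgroup G) :=
      hUp.to_le (commutator_le_self U)
    obtain ⟨w, hw⟩ : ∃ w ∈ (⁅U, U⁆ : Subgroup G), orderOf w = 2 := by
      have : Nontrivial (⁅U, U⁆ : Subgroup G) := (nontrivial_iff_ne_bot _).2 hne'
      obtain ⟨n, hn, hc'⟩ := hU2.nontrivial_iff_card.1 this
      haveI : Fact (Nat.Prime 2) := ⟨Nat.prime_two⟩
      obtain ⟨⟨w, hwm⟩, hwo⟩ := exists_prime_orderOf_dvd_card' (G := (⁅U, U⁆ : Subgroup G)) 2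
        (by rw [hc']; exact dvd_pow_self 2 (by omega))
      exact ⟨w, hwm, by rwa [Subgroup.orderOf_mk] at hwo⟩
    have hws := huniq w hw.1 hw.2
    have hgw : g * w * g⁻¹ ∈ (⁅U, U⁆ : Subgroup G) := by
      have hmap : (⁅U, U⁆ : Subgroup G).map (MulAut.conj g).toMonoidHom ≤ ⁅U, U⁆ := by
        rw [map_commutator]
        refine commutator_mono ?_ ?_ <;>
          (rintro _ ⟨u, hu, rfl⟩; exact (mem_normalizer_iff.1 hgn.1 u).1 hu)
      exact hmap ⟨w, hw.1, rfl⟩
    have hgs := huniq _ hgw (by rw [CfsgLib.Invol.orderOf_conj_eq, hw.2])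
    rw [hws] at hgs
    have hgC : g ∈ C := hsC.2 (mul_inv_eq_iff_eq_mul.1 hgs)
    -- a bigger 2-subgroup of the centraliser
    have hzp : IsPGroup 2 (zpowers (⟨g, hgC⟩ : C)) := by
      obtain ⟨n, hn⟩ := hT ⟨g, hgn.2⟩
      have h1 : (⟨g, hgC⟩ : C) ^ (2 ^ n) = 1 := Subtype.ext (congrArg Subtype.val hn :)
      obtain ⟨k, -, hk⟩ := (Nat.dvd_prime_pow Nat.prime_two).1 (orderOf_dvd_of_pow_eq_one h1)
      exact IsPGroup.of_card (n := k) (by rw [Nat.card_zpowers, hk])
    have hle : zpowers (⟨g, hgC⟩ : C) ≤ normalizer ((P : Subgroup C) : Set C) := by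
      rw [zpowers_le, mem_normalizer_iff]
      intro w'
      have h1 := mem_normalizer_iff.1 hgn.1 (w' : G)
      constructor
      · intro hw'
        obtain ⟨z, hz, hze⟩ := h1.1 ⟨w', hw', rfl⟩
        exact (show z = (⟨g, hgC⟩ : C) * w' * (⟨g, hgC⟩ : C)⁻¹ from Subtype.ext hze) ▸ hz
      · intro hw'
        obtain ⟨z, hz, hze⟩ := h1.2 ⟨_, hw', rfl⟩
        exact (show z = w' from Subtype.ext hze) ▸ hz
    have hjoin := hzp.to_sup_of_normal_right' P.2 hle
    have := P.3 hjoin le_sup_right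
    exact hgU ⟨⟨g, hgC⟩, this ▸ mem_sup_left (mem_zpowers _), rfl⟩
  -- all lifts of involutions are involutions
  obtain ⟨g₀, hg₀, hg₀'⟩ := hlift
  obtain ⟨c₀, hc₀⟩ := D.conj (π g₀) (by rw [← map_mul, hg₀, map_one]) hg₀'
  have hall : ∀ g : H, π g * π g = 1 → π g ≠ 1 → g * g = 1 := by
    intro g h1 h2
    obtain ⟨c₁, hc₁⟩ := D.conj _ h1 h2
    obtain ⟨γ, hγ⟩ := hπ (c₁ * c₀⁻¹)
    have h3 : π (γ * g₀ * γ⁻¹) = π g := by
      rw [map_mul, map_mul, map_inv, hγ, ← hc₀, ← hc₁]; group
    rcases hkerH ((γ * g₀ * γ⁻¹)⁻¹ * g) (by rw [map_mul, map_inv, h3, inv_mul_cancel]) with e | e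
    · rw [← inv_mul_eq_one.1 e]
      rw [show γ * g₀ * γ⁻¹ * (γ * g₀ * γ⁻¹) = γ * (g₀ * g₀) * γ⁻¹ by group, hg₀]
      group
    · have e' : g = γ * g₀ * γ⁻¹ * sH := by rw [← e]; group
      rw [e', show γ * g₀ * γ⁻¹ * sH * (γ * g₀ * γ⁻¹ * sH) =
        γ * g₀ * γ⁻¹ * (sH * (γ * g₀ * γ⁻¹)) * sH by group, ← hcent,
        show γ * g₀ * γ⁻¹ * (γ * g₀ * γ⁻¹ * sH) * sH = γ * (g₀ * g₀) * γ⁻¹ * (sH * sH) by group,
        hg₀, show sH * sH = 1 from Subtype.ext hs2]
      group
  obtain ⟨a, hπa⟩ := hπ D.a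
  obtain ⟨b, hπb⟩ := hπ D.b
  have ha := hall a (by rw [hπa]; exact D.ha) (by rw [hπa]; exact D.ha1)
  have hb := hall b (by rw [hπb]; exact D.hb) (by rw [hπb]; exact D.hb1)
  have hrp : 0 < D.r := by rw [hre]; positivity
  have habr : (a * b) ^ D.r = 1 := by
    have hc2 : (a * b) ^ (D.r / 2) * (a * b) ^ (D.r / 2) = 1 := by
      refine hall _ ?_ ?_
      · rw [← map_mul, ← pow_add, ← two_mul, Nat.mul_div_cancel' hr2, map_pow, map_mul, hπa, hπb,
          D.hab]
      · rw [map_pow, map_mul, hπa, hπb]; exact D.hhalf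
    rwa [← pow_add, ← two_mul, Nat.mul_div_cancel' hr2] at hc2
  have hoa : orderOf a = 2 := CfsgLib.Invol.invol_of_mul_self ha fun e => D.ha1 (by
    rw [← hπa, e, map_one])
  have hob : orderOf b = 2 := CfsgLib.Invol.invol_of_mul_self hb fun e => D.hb1 (by
    rw [← hπb, e, map_one])
  set K := closure ({a, b} : Set H)
  set φ : Fin D.r × Fin 2 → H := fun p => (a * b) ^ (p.1 : ℕ) * a ^ (p.2 : ℕ)
  have hφ : ∀ p, π (φ p) = (D.a * D.b) ^ (p.1 : ℕ) * D.a ^ (p.2 : ℕ) := fun p => by
    simp [φ, hπa, hπb]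
  have hKset : (K : Set H) = Set.range φ := by
    ext d
    refine ⟨fun hd => ?_, ?_⟩
    · have hzr : ∀ k : ℤ, ∃ i : Fin D.r, (a * b) ^ k = (a * b) ^ (i : ℕ) := fun k => by
        have h0 : (0 : ℤ) < D.r := by exact_mod_cast hrp
        refine ⟨⟨(k % (D.r : ℤ)).toNat, by
          have := Int.emod_lt_of_pos k h0
          have := Int.emod_nonneg k h0.ne'
          omega⟩, ?_⟩
        have hk := Int.emod_add_mul_ediv k (D.r : ℤ)
        conv_lhs => rw [← hk, zpow_add, zpow_mul, zpow_natCast, habr, one_zpow, mul_one,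
          ← Int.toNat_of_nonneg (Int.emod_nonneg k h0.ne'), zpow_natCast]
      obtain ⟨k, rfl | rfl⟩ := (CfsgLib.Invol.mem_closure_pair hoa hob).1 hd
      · obtain ⟨i, hi⟩ := hzr k
        exact ⟨(i, 0), by simp [φ, hi]⟩
      · obtain ⟨i, hi⟩ := hzr k
        refine ⟨(i, 1), ?_⟩
        show (a * b) ^ (i : ℕ) * a ^ 1 = _
        rw [← hi, pow_one]
    · rintro ⟨p, rfl⟩
      exact K.mul_mem (K.pow_mem (K.mul_mem (subset_closure (by simp)) (subset_closure (by simp))) _)
        (K.pow_mem (subset_closure (by simp)) _)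
  have hcardK : Nat.card K = 2 * D.r := by
    have hφi : Function.Injective φ := fun p q hpq => D.hinj (by
      have := congrArg π hpq
      rwa [hφ, hφ] at this)
    rw [← SetLike.coe_sort_coe, hKset, Nat.card_range_of_injective hφi]
    simp [mul_comm]
  have hsK : sH ∉ K := by
    intro hmem
    have : sH ∈ (K : Set H) := hmem
    rw [hKset] at this
    obtain ⟨p, hp⟩ := this
    have h1 := hφ p
    rw [hp, hπs] at h1
    have h2 := D.hinj (a₁ := p) (a₂ := (⟨0, hrp⟩, 0)) (by simpa using h1.symm)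
    rw [h2] at hp
    simp [φ] at hp
    exact CfsgLib.Invol.invol_ne_one hs (congrArg Subtype.val hp).symm
  obtain ⟨q, hq, hMq⟩ := D.hodd
  have hidxK : K.index = 2 * q := by
    have h1 := K.index_mul_card
    rw [hcardK, hcardH, hMq] at h1
    exact Nat.eq_of_mul_eq_mul_right (show 0 < 2 * D.r by omega) (by rw [h1]; ring)
  have : Fintype (H ⧸ K) := Fintype.ofFinite _
  set ε : H →* ℤˣ := Equiv.Perm.sign.comp (MulAction.toPermHom H (H ⧸ K))
  have hεs : ε sH = -1 := by
    set σ := MulAction.toPermHom H (H ⧸ K) sH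
    have hσ2 : σ ^ 2 = 1 := by
      rw [← map_pow, pow_two, show sH * sH = 1 from Subtype.ext hs2, map_one]
    have hsupp : σ.support = Finset.univ := by
      refine Finset.eq_univ_of_forall fun c => ?_
      rw [Equiv.Perm.mem_support]
      induction c using QuotientGroup.induction_on with
      | _ g =>
        intro heq
        have h1 : ((sH * g : H) : H ⧸ K) = (g : H ⧸ K) := heq
        rw [QuotientGroup.eq] at h1
        refine hsK ?_
        have h2 : (sH * g)⁻¹ * g = sH⁻¹ := by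
          rw [← hcent g]; group
        rw [h2] at h1
        simpa using h1
    show Equiv.Perm.sign σ = -1
    rw [CfsgLib.Comp.sign_invol hσ2, hsupp, Finset.card_univ, ← Nat.card_eq_fintype_card,
      show Nat.card (H ⧸ K) = K.index from rfl, hidxK,
      show 2 * q / 2 = q by omega, hq.neg_one_pow]
  have hεπ : Function.Bijective fun g : ε.ker => π (g : H) := by
    refine ⟨fun g g' hgg' => ?_, fun y => ?_⟩
    · rcases hkerH ((g : H)⁻¹ * g') (by
        rw [map_mul, map_inv, show π (g : H) = π (g' : H) from hgg', inv_mul_cancel]) with e | e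
      · exact Subtype.ext (inv_mul_eq_one.1 e)
      · have h1 := congrArg ε e
        rw [map_mul, map_inv, MonoidHom.mem_ker.1 g.2, MonoidHom.mem_ker.1 g'.2, hεs] at h1
        exact absurd h1 (by decide)
    · obtain ⟨g, rfl⟩ := hπ y
      rcases Int.units_eq_one_or (ε g) with e | e
      · exact ⟨⟨g, e⟩, rfl⟩
      · exact ⟨⟨g * sH, MonoidHom.mem_ker.2 (by rw [map_mul, e, hεs]; decide)⟩,
          by simp [hπs]⟩
  let E : ε.ker ≃* M := MulEquiv.ofBijective (π.comp ε.ker.subtype) hεπ
  have htriv : ∀ ψ : M →* ℤˣ, ∀ y, ψ y = 1 := by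
    intro ψ y
    rcases ψ.normal_ker.eq_bot_or_eq_top with hk | hk
    · exact absurd ⟨⟨fun u w => (MonoidHom.ker_eq_bot_iff ψ).1 hk
        (by rw [map_mul, map_mul, mul_comm])⟩⟩ hM
    · exact MonoidHom.mem_ker.1 (hk ▸ Subgroup.mem_top y)
  let f : M →* G := H.subtype.comp (ε.ker.subtype.comp E.symm.toMonoidHom)
  have hfε : ∀ y, ∃ g : H, (g : G) = f y ∧ ε g = 1 := fun y =>
    ⟨_, rfl, MonoidHom.mem_ker.1 (E.symm y).2⟩
  have hsurj : ∀ g : H, ε g = 1 → ∃ y, f y = g := fun g hg =>
    ⟨E ⟨g, hg⟩, by simp [f]⟩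
  refine ⟨⟨f, ?_, fun y => hsC.1 (hHC (E.symm y : H).2), fun y hy => ?_, fun y hy m => ?_, ?_,
    fun y hy hys => ?_⟩⟩
  · intro u w huw
    exact E.symm.injective (Subtype.ext (Subtype.ext huw))
  · obtain ⟨g, hg, hε⟩ := hfε y
    rw [hy] at hg
    rw [show g = sH from Subtype.ext hg, hεs] at hε
    exact absurd hε (by decide)
  · have hyC : y ∈ C := hsC.2 hy
    let cy : M →* H :=
      { toFun := fun m => ⟨y * f m * y⁻¹, hnorm y hyC _ (E.symm m : H).2⟩
        map_one' := Subtype.ext (by simp)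
        map_mul' := fun m m' => Subtype.ext (by simp [mul_assoc]) }
    obtain ⟨n, hn⟩ := hsurj (cy m) (htriv (ε.comp cy) m)
    exact ⟨n, hn.symm⟩
  · rw [← hC, hcard]
  · obtain ⟨n, hn⟩ := hsurj ⟨y, hfive y hy hys⟩ (by
      rcases Int.units_eq_one_or (ε ⟨y, hfive y hy hys⟩) with e | e
      · exact e
      · exfalso
        have h5 : (⟨y, hfive y hy hys⟩ : H) ^ 5 = 1 :=
          Subtype.ext (by
            have := pow_orderOf_eq_one y
            rw [hy] at this
            simpa using this)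
        have h6 := congrArg ε h5
        rw [map_pow, e, map_one] at h6
        exact absurd h6 (by decide))
    exact ⟨n, hn⟩

end CfsgLib.ClassK.M12Nse
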