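import Cfsg.Agent.Lib.ClassK.M12Nse.Basic
import Cfsg.Agent.Lib.ClassK.M12Nse.Facts
import Cfsg.Agent.Lib.ClassK.M12Nse.Lift

/-! Conjugation of `A5 ≤ C(s)` by elements of `C(s)`, and the two classes of involutions. -/

set_option autoImplicit false

namespace CfsgLib.ClassK.M12Nse

open Subgroup Equiv

universe u

variable {G : Type u} [Group G] [Finite G]

/-- Elements of the centraliser act on the copy of `A5` as permutations of five points. -/
theorem Loc.exists_perm {s : G} (L : Loc G A5 s) {y : G} (hy : y * s = s * y) :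
    ∃ σ : Perm (Fin 5), ∀ a : A5, ∃ b : A5,
      (b : Perm (Fin 5)) = σ * (a : Perm (Fin 5)) * σ⁻¹ ∧ y * L.f a * y⁻¹ = L.f b := by
  choose φ hφ using L.norm y hy
  have hmul : ∀ a b, φ (a * b) = φ a * φ b := fun a b => L.inj (by
    rw [← hφ, map_mul, map_mul, ← hφ, ← hφ]; group)
  have h1 : φ 1 = 1 := L.inj (by rw [← hφ, map_one]; group)
  let ψ : A5 →* A5 := ⟨⟨φ, h1⟩, hmul⟩
  have hinj : Function.Injective ψ := fun a b hab => L.inj (by
    have e : y * L.f a * y⁻¹ = y * L.f b * y⁻¹ := by rw [hφ, hφ]; exact congrArg L.f hab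
    exact mul_left_cancel (mul_right_cancel e))
  obtain ⟨r1, r2, r3, r4, r5, r6, r7, r8⟩ := gen_rels
  have hne : ∀ a : A5, a ≠ 1 → ψ a ≠ 1 := fun a ha e => ha (hinj (e.trans (map_one ψ).symm))
  obtain ⟨σ, hσ1, hσ2⟩ := rels_conj (ψ g1) (ψ g2) (by rw [← map_pow, r1, map_one]) (hne _ r2)
    (by rw [← map_pow, r3, map_one]) (hne _ r4) (by rw [← map_mul, ← map_pow, r5, map_one])
    (by rw [← map_mul]; exact hne _ r6)
    (by rw [← map_inv, ← map_mul, ← map_pow, r7, map_one])
    (by rw [← map_inv, ← map_mul]; exact hne _ r8)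
  refine ⟨σ, fun a => ⟨ψ a, ?_, hφ a⟩⟩
  have key : (alternatingGroup (Fin 5)).subtype.comp ψ =
      (MulAut.conj σ).toMonoidHom.comp (alternatingGroup (Fin 5)).subtype := by
    refine MonoidHom.eq_of_eqOn_dense closure_A5 ?_
    rintro a (rfl | rfl)
    · exact hσ1.symm
    · exact hσ2.symm
  exact DFunLike.congr_fun key a

/-- The situation reached after the exclusions: exactly two classes of involutions, with the
copy of `A5` in the centraliser of `s`. `pick * L.f a` is of the class of `t` for every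
involution `a` of `A5`. -/
structure TwoClass (G : Type u) [Group G] : Type u where
  s : G
  t : G
  hs : orderOf s = 2
  ht : orderOf t = 2
  card_cent_s : Nat.card (centralizer ({s} : Set G)) = 240
  card_cent_t : Nat.card (centralizer ({t} : Set G)) = 192
  card_cl_s : (cl s).ncard = 396
  card_cl_t : (cl t).ncard = 495
  not_conj : ¬ IsConj s t
  invol : ∀ y : G, orderOf y = 2 → y ∈ cl s ∨ y ∈ cl t
  L : Loc G A5 s
  pick : G
  pick_cases : pick = 1 ∨ pick = s
  t_eq : t = pick * L.f va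
  t_type : ∀ a : A5, a * a = 1 → a ≠ 1 → pick * L.f a ∈ cl t ∧ s * (pick * L.f a) ∈ cl s
  five_only : ∀ x y : G, orderOf x = 5 → orderOf y = 2 → y * x = x * y → y ∈ cl s

end CfsgLib.ClassK.M12Nse
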