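import Cfsg.Agent.Lib.ClassK.M12Nse.Split

/-! The values of the number of elements of each order in M12. -/

set_option autoImplicit false
set_option maxRecDepth 100000
set_option maxHeartbeats 1000000

namespace CfsgLib.ClassK.M12Nse

open Cfsg CfsgLib.Golay
open scoped Pointwise

/-- The levels from `k` on. -/
abbrev lev (k : ℕ) : List Level := chainM12Levels.drop k
/-- The elements fixing `0` and `1`. -/
abbrev X10 : List ℕ := [2, 1, sqMask]
/-- The elements fixing `0`, `1` and `2`. -/
abbrev X9 : List ℕ := [4, 2, 1, sqMask]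

/-- An element carrying `0` to `1` and `1` to `0`. -/
def e1 : List ℕ := [984573615201180725592165913404213249, 984818244535754528103549039458486304]
/-- An element carrying `0` to `1` and `1` to `2`. -/
def e2 : List ℕ := [984573615201180725592165913404213249, 233233386906768391987032901617288256]
/-- An element fixing `0`, carrying `1` to `2` and `2` to `1`. -/
def e3 : List ℕ := [233233386906768391987032901617288256, 984818244535754528103549039458486304]
/-- An element fixing `0`, carrying `1` to `2` and `2` to `3`. -/
def e4 : List ℕ := [233233386906768391987032901617288256, 735500604421669808992593446508235808]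

/-- Number of elements of order `n` as computed by the chain. -/
def countM12 (n : ℕ) : ℕ :=
  hist (prods (lev 2)) n + 10 * (hist ((prods (lev 3)).map (e3 ++ ·)) n +
      9 * hist ((prods (lev 3)).map (e4 ++ ·)) n) +
    11 * (hist ((prods (lev 2)).map (e1 ++ ·)) n + 10 * hist ((prods (lev 2)).map (e2 ++ ·)) n)

theorem chain10 : chainOK X10 (lev 2) chainM12Fin = true := by decide +kernel
theorem chain9 : chainOK X9 (lev 3) chainM12Fin = true := by decide +kernel

theorem in10 : (prods (lev 2)).all (fun w => w.all (inFix X10) && !Nat.beq (ordW w) 0) = true := by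
  decide +kernel
theorem inC1 : (prods (lev 2)).all
    (fun w => w.all (inFix X10) && !Nat.beq (ordW (e1 ++ w)) 0) = true := by decide +kernel
theorem inC2 : (prods (lev 2)).all
    (fun w => w.all (inFix X10) && !Nat.beq (ordW (e2 ++ w)) 0) = true := by decide +kernel
theorem inC3 : (prods (lev 3)).all
    (fun w => w.all (inFix X9) && !Nat.beq (ordW (e3 ++ w)) 0) = true := by decide +kernel
theorem inC4 : (prods (lev 3)).all
    (fun w => w.all (inFix X9) && !Nat.beq (ordW (e4 ++ w)) 0) = true := by decide +kernel

theorem fix11_le : fixMasks X11 ≤ fixMasks X12 :=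
  fun _ h => ((mem_fixMasks_cons (by norm_num : 0 < 24)).1 h).1

theorem fix10_le : fixMasks X10 ≤ fixMasks X12 :=
  fun _ h => fix11_le ((mem_fixMasks_cons (by norm_num : 1 < 24)).1 h).1

theorem ncard_X11 (n : ℕ) : (ordSet X11 (fun _ => True) n).ncard =
    hist (prods (lev 2)) n + 10 * (hist ((prods (lev 3)).map (e3 ++ ·)) n +
      9 * hist ((prods (lev 3)).map (e4 ++ ·)) n) := by
  have h := ncard_step (X := X11) (lv := chainM12Levels.getD 1 noLevel)
    (lv' := chainM12Levels.getD 2 noLevel) (lv'' := chainM12Levels.getD 3 noLevel)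
    (by decide +kernel) (by decide +kernel) (by decide +kernel) (by decide +kernel)
    (by decide +kernel) (by decide +kernel) (by decide +kernel) (by decide +kernel) n
  rw [show pop (orbMask (chainM12Levels.getD 2 noLevel).1 (chainM12Levels.getD 2 noLevel).2.1) = 10
      by decide +kernel,
    show pop (orbMask (chainM12Levels.getD 3 noLevel).1 (chainM12Levels.getD 3 noLevel).2.1) = 9
      by decide +kernel,
    show (chainM12Levels.getD 1 noLevel).1 = 1 by decide +kernel,
    show (chainM12Levels.getD 2 noLevel).1 = 2 by decide +kernel,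
    show (chainM12Levels.getD 3 noLevel).1 = 3 by decide +kernel] at h
  rw [h, show (Nat.shiftLeft 1 1 :: X11 : List ℕ) = X10 from rfl,
    ncard_ordSet_prods chain10 fix10_le in10 (by decide +kernel) n,
    ncard_ordSet_coset (X := X11) (b := 1) (b' := 2) (z := 1) (by norm_num) (by norm_num) chain9
      fix11_le e3 (by decide +kernel) (by decide +kernel) (by decide +kernel) inC3
      (by decide +kernel) n,
    ncard_ordSet_coset (X := X11) (b := 1) (b' := 2) (z := 3) (by norm_num) (by norm_num) chain9
      fix11_le e4 (by decide +kernel) (by decide +kernel) (by decide +kernel) inC4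
      (by decide +kernel) n]

theorem ncard_X12 (n : ℕ) : (ordSet X12 (fun _ => True) n).ncard = countM12 n := by
  have h := ncard_step (X := X12) (lv := chainM12Levels.getD 0 noLevel)
    (lv' := chainM12Levels.getD 1 noLevel) (lv'' := chainM12Levels.getD 2 noLevel)
    (by decide +kernel) (by decide +kernel) (by decide +kernel) (by decide +kernel)
    (by decide +kernel) (by decide +kernel) (by decide +kernel) (by decide +kernel) n
  rw [show pop (orbMask (chainM12Levels.getD 1 noLevel).1 (chainM12Levels.getD 1 noLevel).2.1) = 11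
      by decide +kernel,
    show pop (orbMask (chainM12Levels.getD 2 noLevel).1 (chainM12Levels.getD 2 noLevel).2.1) = 10
      by decide +kernel,
    show (chainM12Levels.getD 0 noLevel).1 = 0 by decide +kernel,
    show (chainM12Levels.getD 1 noLevel).1 = 1 by decide +kernel,
    show (chainM12Levels.getD 2 noLevel).1 = 2 by decide +kernel] at h
  rw [h, show (Nat.shiftLeft 1 0 :: X12 : List ℕ) = X11 from rfl, ncard_X11,
    ncard_ordSet_coset (X := X12) (b := 0) (b' := 1) (z := 0) (by norm_num) (by norm_num) chain10
      le_rfl e1 (by decide +kernel) (by decide +kernel) (by decide +kernel) inC1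
      (by decide +kernel) n,
    ncard_ordSet_coset (X := X12) (b := 0) (b' := 1) (z := 2) (by norm_num) (by norm_num) chain10
      le_rfl e2 (by decide +kernel) (by decide +kernel) (by decide +kernel) inC2
      (by decide +kernel) n, countM12]

theorem card_order (n : ℕ) :
    Nat.card {g : ↥Spor.M12 // orderOf g = n} = countM12 n := by
  rw [← ncard_X12, sporM12_eq, ← Nat.card_coe_set_eq]
  exact Nat.card_congr
    { toFun := fun g => ⟨g.1.1, g.1.2, trivial, by rw [Subgroup.orderOf_coe]; exact g.2⟩
      invFun := fun g => ⟨⟨g.1, g.2.1⟩, by rw [← Subgroup.orderOf_coe]; exact g.2.2.2⟩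
      left_inv := fun _ => rfl
      right_inv := fun _ => rfl }

/-- The values. -/
def nseM12 : Finset ℕ := {1, 891, 4400, 5940, 9504, 17280, 23760}

theorem countM12_table : [1, 2, 3, 4, 5, 6, 8, 10, 11].map countM12 =
    [1, 891, 4400, 5940, 9504, 23760, 23760, 9504, 17280] := by decide +kernel

theorem hist_eq_zero {W : List (List ℕ)} {n : ℕ} (hn : n ∉ [1, 2, 3, 4, 5, 6, 8, 10, 11])
    (h : W.all (fun w => [1, 2, 3, 4, 5, 6, 8, 10, 11].contains (ordW w)) = true) :
    hist W n = 0 := by
  rw [hist, List.countP_eq_zero]
  intro w hw hwn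
  simp only [List.all_eq_true] at h
  have := h w hw
  rw [List.contains_iff_mem, Nat.eq_of_beq_eq_true hwn] at this
  exact hn this

theorem countM12_zero {n : ℕ} (hn : n ∉ [1, 2, 3, 4, 5, 6, 8, 10, 11]) : countM12 n = 0 := by
  rw [countM12, hist_eq_zero hn (by decide +kernel), hist_eq_zero hn (by decide +kernel),
    hist_eq_zero hn (by decide +kernel), hist_eq_zero hn (by decide +kernel),
    hist_eq_zero hn (by decide +kernel)]

theorem nse_M12 :
    {c : ℕ | 0 < c ∧ ∃ n : ℕ, c = Nat.card {g : ↥Spor.M12 // orderOf g = n}} = ↑nseM12 := by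
  ext c
  simp only [card_order, Set.mem_setOf_eq, Finset.mem_coe]
  have ht := countM12_table
  simp only [List.map_cons, List.map_nil, List.cons.injEq, and_true] at ht
  obtain ⟨h1, h2, h3, h4, h5, h6, h8, h10, h11⟩ := ht
  constructor
  · rintro ⟨hc, n, rfl⟩
    by_cases hn : n ∈ [1, 2, 3, 4, 5, 6, 8, 10, 11]
    · simp only [List.mem_cons, List.not_mem_nil, or_false] at hn
      rcases hn with rfl | rfl | rfl | rfl | rfl | rfl | rfl | rfl | rfl <;>
        simp [h1, h2, h3, h4, h5, h6, h8, h10, h11, nseM12]
    · rw [countM12_zero hn] at hc; omega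
  · intro hc
    simp only [nseM12, Finset.mem_insert, Finset.mem_singleton] at hc
    rcases hc with rfl | rfl | rfl | rfl | rfl | rfl | rfl
    exacts [⟨by norm_num, 1, h1.symm⟩, ⟨by norm_num, 2, h2.symm⟩, ⟨by norm_num, 3, h3.symm⟩,
      ⟨by norm_num, 4, h4.symm⟩, ⟨by norm_num, 5, h5.symm⟩, ⟨by norm_num, 11, h11.symm⟩,
      ⟨by norm_num, 6, h6.symm⟩]

end CfsgLib.ClassK.M12Nse
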