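import Cfsg.Agent.Lib.ClassK.M12Nse.Model
import Cfsg.Agent.Lib.ClassK.M12Nse.Basic

/-! A group with the order and the element counts of M12 is simple of order 95040. -/

set_option autoImplicit false

namespace CfsgLib.ClassK.M12Nse

open Cfsg

variable {G : Type*} [Group G] [Finite G]

theorem hyp_of_nse (hcard : Nat.card G = Nat.card ↥Spor.M12)
    (hnse : {c : ℕ | 0 < c ∧ ∃ n : ℕ, c = Nat.card {g : G // orderOf g = n}} =
      {c : ℕ | 0 < c ∧ ∃ n : ℕ, c = Nat.card {g : ↥Spor.M12 // orderOf g = n}}) : Hyp G := by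
  refine ⟨by rw [hcard, CfsgLib.Golay.card_sporM12], fun n hn => ?_⟩
  have h1 : Nat.card {g : G // orderOf g = n} ∈
      {c : ℕ | 0 < c ∧ ∃ n : ℕ, c = Nat.card {g : ↥Spor.M12 // orderOf g = n}} :=
    hnse ▸ ⟨hn, n, rfl⟩
  rw [nse_M12, Finset.mem_coe] at h1
  simp only [nseM12, Finset.mem_insert, Finset.mem_singleton] at h1
  simpa [vals] using h1

theorem simple_of_nse (hcard : Nat.card G = Nat.card ↥Spor.M12)
    (hnse : {c : ℕ | 0 < c ∧ ∃ n : ℕ, c = Nat.card {g : G // orderOf g = n}} =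
      {c : ℕ | 0 < c ∧ ∃ n : ℕ, c = Nat.card {g : ↥Spor.M12 // orderOf g = n}}) :
    IsSimpleGroup G ∧ Nat.card G = 95040 :=
  ⟨simple (hyp_of_nse hcard hnse), (hyp_of_nse hcard hnse).card⟩

end CfsgLib.ClassK.M12Nse
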