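import Cfsg.Agent.Lib.Golay.Mathieu

/-! Words in transversal elements of the stabiliser chain of M12, and the orders of their values. -/

set_option autoImplicit false
set_option maxRecDepth 100000

namespace CfsgLib.ClassK.M12Nse

open Cfsg CfsgLib.Golay
open scoped Pointwise

/-- Value of a word. -/
noncomputable def wval : List ℕ → Equiv.Perm GolayPt
  | [] => 1
  | t :: w => permOf t * wval w

/-- Image of a point number under a word. -/
def app : List ℕ → ℕ → ℕ
  | [], i => i
  | t :: w, i => img t (app w i)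

theorem app_lt : ∀ {w : List ℕ}, (∀ t ∈ w, valid t = true) → ∀ {i : ℕ}, i < 24 → app w i < 24
  | [], _, _, hi => hi
  | t :: w, h, _, hi => valid_lt (h t (by simp)) (app_lt (fun s hs => h s (by simp [hs])) hi)

theorem wval_pt : ∀ {w : List ℕ}, (∀ t ∈ w, valid t = true) → ∀ {i : ℕ}, i < 24 →
    wval w (pt i) = pt (app w i)
  | [], _, _, _ => rfl
  | t :: w, h, i, hi => by
    have hw : ∀ s ∈ w, valid s = true := fun s hs => h s (by simp [hs])
    rw [wval, Equiv.Perm.mul_apply, wval_pt hw hi, permOf_pt (h t (by simp)) (app_lt hw hi), app]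

theorem wval_append : ∀ (u v : List ℕ), wval (u ++ v) = wval u * wval v
  | [], v => (one_mul _).symm
  | t :: u, v => by rw [List.cons_append, wval, wval_append u v, wval, mul_assoc]

/-- Iterated image. -/
def appIter (w : List ℕ) : ℕ → ℕ → ℕ
  | 0, i => i
  | k + 1, i => app w (appIter w k i)

theorem appIter_lt {w : List ℕ} (h : ∀ t ∈ w, valid t = true) {i : ℕ} (hi : i < 24) :
    ∀ k, appIter w k i < 24
  | 0 => hi
  | k + 1 => app_lt h (appIter_lt h hi k)

theorem wval_pow_pt {w : List ℕ} (h : ∀ t ∈ w, valid t = true) {i : ℕ} (hi : i < 24) :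
    ∀ k, (wval w ^ k) (pt i) = pt (appIter w k i)
  | 0 => rfl
  | k + 1 => by
    rw [pow_succ', Equiv.Perm.mul_apply, wval_pow_pt h hi k, wval_pt h (appIter_lt h hi k), appIter]

/-- The `k`-th power of the value fixes the first five points. -/
def powTriv (w : List ℕ) (k : ℕ) : Bool :=
  Nat.beq (appIter w k 0) 0 && Nat.beq (appIter w k 1) 1 && Nat.beq (appIter w k 2) 2 &&
    Nat.beq (appIter w k 3) 3 && Nat.beq (appIter w k 4) 4

theorem powTriv_iff {w : List ℕ} (h : ∀ t ∈ w, valid t = true) (hw : wval w ∈ fixMasks X12)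
    (k : ℕ) : powTriv w k = true ↔ wval w ^ k = 1 := by
  constructor
  · intro hk
    simp only [powTriv, Bool.and_eq_true] at hk
    obtain ⟨⟨⟨⟨h0, h1⟩, h2⟩, h3⟩, h4⟩ := hk
    refine faith_fix12 (Subgroup.pow_mem _ hw k) fun i hi => ?_
    rw [wval_pow_pt h (by omega)]
    congr 1
    interval_cases i
    exacts [Nat.eq_of_beq_eq_true h0, Nat.eq_of_beq_eq_true h1, Nat.eq_of_beq_eq_true h2,
      Nat.eq_of_beq_eq_true h3, Nat.eq_of_beq_eq_true h4]
  · intro hk
    have hb : ∀ i < 24, Nat.beq (appIter w k i) i = true := by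
      intro i hi
      have e := wval_pow_pt h hi k
      rw [hk, Equiv.Perm.one_apply] at e
      have := congrArg idx e
      rw [idx_pt hi, idx_pt (appIter_lt h hi k)] at this
      rw [← this]; exact Nat.beq_refl i
    simp [powTriv, hb 0 (by norm_num), hb 1 (by norm_num), hb 2 (by norm_num),
      hb 3 (by norm_num), hb 4 (by norm_num)]

/-- The first exponent killing the value (searching at most `f` steps from `k`; `0` if none). -/
def ordAux (w : List ℕ) : ℕ → ℕ → ℕ
  | 0, _ => 0
  | f + 1, k => bif powTriv w k then k else ordAux w f (k + 1)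

/-- The order of the value, if it is at most 12. -/
def ordW (w : List ℕ) : ℕ := ordAux w 12 1

theorem ordAux_spec {w : List ℕ} : ∀ (f k : ℕ), ordAux w f k ≠ 0 →
    k ≤ ordAux w f k ∧ powTriv w (ordAux w f k) = true ∧
      ∀ m, k ≤ m → m < ordAux w f k → powTriv w m = false
  | 0, _, h => absurd rfl h
  | f + 1, k, h => by
    simp only [ordAux] at h ⊢
    cases hk : powTriv w k with
    | true =>
      simp only [cond_true]
      exact ⟨le_rfl, hk, fun m h1 h2 => absurd h1 (by omega)⟩
    | false =>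
      simp only [hk, cond_false] at h ⊢
      obtain ⟨h1, h2, h3⟩ := ordAux_spec f (k + 1) h
      refine ⟨by omega, h2, fun m hm hm' => ?_⟩
      rcases Nat.eq_or_lt_of_le hm with rfl | hlt
      · exact hk
      · exact h3 m hlt hm'

theorem orderOf_wval {w : List ℕ} (h : ∀ t ∈ w, valid t = true) (hw : wval w ∈ fixMasks X12)
    (h0 : ordW w ≠ 0) : orderOf (wval w) = ordW w := by
  obtain ⟨h1, h2, h3⟩ := ordAux_spec (w := w) 12 1 h0
  rw [orderOf_eq_iff (by exact h1)]
  refine ⟨(powTriv_iff h hw _).1 h2, fun m hm hm0 he => ?_⟩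
  have := h3 m hm0 hm
  rw [(powTriv_iff h hw m).2 he] at this
  exact absurd this (by simp)

/-- Products of transversal elements. -/
def prods : List Level → List (List ℕ)
  | [] => [[]]
  | lv :: L => lv.2.1.flatMap fun t => (prods L).map (List.cons t)

theorem wval_mem {X : List ℕ} : ∀ {w : List ℕ}, (∀ t ∈ w, inFix X t = true) → wval w ∈ fixMasks X
  | [], _ => Subgroup.one_mem _
  | t :: w, h => Subgroup.mul_mem _ (inFix_mem (h t (by simp)))
      (wval_mem (fun s hs => h s (by simp [hs])))

theorem exists_prod : ∀ {L : List Level} {X : List ℕ} {fin : List (ℕ × ℕ × ℕ)},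
    chainOK X L fin = true → ∀ σ ∈ fixMasks X, ∃ w ∈ prods L, wval w = σ
  | [], X, fin, h, σ, hσ => by
    have h1 := card_fixMasks h
    rw [chainCard] at h1
    rw [Subgroup.card_eq_one.1 h1, Subgroup.mem_bot] at hσ
    exact ⟨[], by simp [prods], hσ.symm⟩
  | lv :: L, X, fin, h, σ, hσ => by
    simp only [chainOK, Bool.and_eq_true] at h
    obtain ⟨hb, -, hT, horb⟩ := levelOK_unpack h.1
    have hq := (horb (σ (pt lv.1))).1 ⟨σ, hσ, rfl⟩
    rw [mem_mset] at hq
    obtain ⟨g, hg, hgq⟩ := testBit_orbMask.1 hq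
    have hgv := inFix_valid (hT g hg)
    have hgm := inFix_mem (hT g hg)
    have hfix : (permOf g)⁻¹ * σ ∈ fixMasks (Nat.shiftLeft 1 lv.1 :: X) := by
      refine (mem_fixMasks_cons hb).2 ⟨Subgroup.mul_mem _ (Subgroup.inv_mem _ hgm) hσ, ?_⟩
      rw [Equiv.Perm.mul_apply, Equiv.Perm.inv_eq_iff_eq, permOf_pt hgv hb, hgq, pt_idx]
    obtain ⟨w, hw, e⟩ := exists_prod h.2 _ hfix
    refine ⟨g :: w, ?_, by rw [wval, e, mul_inv_cancel_left]⟩
    simp only [prods, List.mem_flatMap, List.mem_map]
    exact ⟨g, hg, w, hw, rfl⟩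

/-- Counts of the orders along a list of words. -/
def hist (W : List (List ℕ)) (n : ℕ) : ℕ := W.countP fun w => Nat.beq (ordW w) n

end CfsgLib.ClassK.M12Nse
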